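import Cfsg.Agent.CoprimeLayer.Perfect
import Cfsg.Agent.Components.LocalBalance
import Cfsg.Agent.Components.Misc.AlperinGoldschmidtChain
import Cfsg.Agent.OddChar.PF.OddOrder
import Cfsg.Agent.S0215

/-!
A group acting faithfully on `E`, with `E` free of odd normal subgroups, has no perfect subgroup
centralising a centric `2`-subgroup of `E`.
-/

set_option autoImplicit false
set_option linter.unusedSectionVars false
set_option linter.style.haveILetI false

namespace Cfsg.Lib.CoprimeLayer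

open Subgroup Cfsg.Lib.Coprime Cfsg.Lib.CommFixedGen
open scoped commutatorElement

universe u

variable {Y : Type u} [Group Y] [Finite Y] {E : Subgroup Y}

/-- a `2`-subgroup of `E` containing the `2`-subgroups of `E` centralising it -/
structure Centric (E T : Subgroup Y) : Prop where
  le : T ≤ E
  isP : IsPGroup 2 T
  max : ∀ Q : Subgroup Y, IsPGroup 2 Q → Q ≤ E ⊓ centralizer (T : Set Y) → Q ≤ T

theorem coprime_two_of_odd {n : ℕ} (h : Odd n) : Nat.Coprime n 2 := Nat.coprime_two_right.2 h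

theorem eq_one_of_two_odd {T O : Subgroup Y} (hT : IsPGroup 2 T) (hO : Odd (Nat.card O)) {x : Y}
    (hxT : x ∈ T) (hxO : x ∈ O) : x = 1 := by
  haveI : Fact (Nat.Prime 2) := ⟨Nat.prime_two⟩
  obtain ⟨n, hn⟩ := IsPGroup.iff_card.1 hT
  refine eq_one_of_coprime (N := T) (H := O) ?_ hxT hxO
  rw [hn]
  exact (coprime_two_of_odd hO).symm.pow_left n

theorem Centric.decomp [E.Normal] {T : Subgroup Y} (hT : Centric E T) :
    ∃ O : Subgroup Y, O ≤ E ⊓ centralizer (T : Set Y) ∧ Odd (Nat.card O) ∧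
      normalizer (T : Set Y) ≤ normalizer (O : Set Y) ∧
      ∀ k ∈ E ⊓ centralizer (T : Set Y), ∃ z ∈ T ⊓ centralizer (T : Set Y), ∃ o ∈ O, z * o = k := by
  haveI : Fact (Nat.Prime 2) := ⟨Nat.prime_two⟩
  set K := E ⊓ centralizer (T : Set Y) with hK
  set Z := T.subgroupOf K with hZ
  have hcen : ∀ (z k : K), z ∈ Z → k * z = z * k := fun z k hz =>
    Subtype.ext (mem_centralizer_iff.1 k.2.2 z hz).symm
  haveI : Z.Normal := ⟨fun z hz k => by rwa [hcen z k hz, mul_inv_cancel_right]⟩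
  obtain ⟨P⟩ := (inferInstance : Nonempty (Sylow 2 K))
  have hPZ : (P : Subgroup K) ≤ Z := fun x hx =>
    hT.max _ (P.2.map K.subtype) (map_subtype_le _) (mem_map_of_mem K.subtype hx)
  have hZP : Z = (P : Subgroup K) :=
    P.3 (hT.isP.comap_of_injective K.subtype K.subtype_injective) hPZ
  have hcop : (Nat.card Z).Coprime Z.index := by rw [hZP]; exact P.card_coprime_index
  obtain ⟨H, hH⟩ := exists_right_complement'_of_coprime hcop
  haveI : H.Normal := ⟨fun h hh g => by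
    obtain ⟨⟨z, h'⟩, hzh⟩ := hH.2 g
    rw [show g = (z : K) * h' from hzh.symm, show (z : K) * h' * h * ((z : K) * h')⁻¹
      = (z : K) * ((h' : K) * h * (h' : K)⁻¹) * (z : K)⁻¹ by group, ← hcen z _ z.2, mul_inv_cancel_right]
    exact mul_mem (mul_mem h'.2 hh) (inv_mem h'.2)⟩
  have hHo : (Nat.card H).Coprime 2 := by
    rw [← hH.symm.index_eq_card, hZP]
    exact (Nat.Prime.coprime_iff_not_dvd Nat.prime_two).2 P.not_dvd_index |>.symm
  refine ⟨(Cfsg.pPrimeCore 2 K).map K.subtype, map_subtype_le _, ?_, ?_, fun k hk => ?_⟩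
  · rw [card_map_of_injective K.subtype_injective]
    exact Nat.coprime_two_right.1 (Cfsg.Lib.Components.coprime_card_pPrimeCore 2)
  · haveI : (Cfsg.pPrimeCore 2 K).Characteristic := Cfsg.Lib.Components.pPrimeCore_characteristic
    refine (le_normalizer_inf ?_ ?_).trans (normalizer_le_normalizer_char _)
    · exact fun g _ => by rw [normalizer_eq_top]; exact mem_top _
    · exact Cfsg.Lib.Components.normalizer_le_normalizer_centralizer' T
  · obtain ⟨⟨z, h⟩, hzh⟩ := hH.2 ⟨k, hk⟩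
    refine ⟨((z : K) : Y), ⟨z.2, (z : K).2.2⟩, ((h : K) : Y),
      mem_map_of_mem K.subtype (Cfsg.Lib.Components.le_pPrimeCore hHo h.2), congrArg Subtype.val hzh⟩

/-- commutators of a perfect subgroup of the centralizer with an element of the normalizer -/
theorem Centric.comm_mem [E.Normal] {T O P : Subgroup Y} (hT : Centric E T) (hO : Odd (Nat.card O))
    (hON : normalizer (T : Set Y) ≤ normalizer (O : Set Y))
    (hdec : ∀ k ∈ E ⊓ centralizer (T : Set Y), ∃ z ∈ T ⊓ centralizer (T : Set Y), ∃ o ∈ O, z * o = k)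
    (hP : ⁅P, P⁆ = P) (hPC : P ≤ centralizer (T : Set Y)) {n : Y} (hn : n ∈ normalizer (T : Set Y))
    (hE : ∀ p ∈ P, ⁅n, p⁆ ∈ E) : ∀ p ∈ P, ⁅n, p⁆ ∈ O := by
  have hK : ∀ p : P, ⁅n, (p : Y)⁆ ∈ E ⊓ centralizer (T : Set Y) := fun p => by
    refine ⟨hE p p.2, ?_⟩
    rw [commutatorElement_def]
    exact mul_mem ((mem_normalizer_iff.1 (Cfsg.Lib.Components.normalizer_le_normalizer_centralizer' T hn) _).1
      (hPC p.2)) (inv_mem (hPC p.2) : (p : Y)⁻¹ ∈ centralizer (T : Set Y))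
  choose z hz o ho hzo using fun p : P => hdec _ (hK p)
  have hcT : ∀ (p : P), ∀ t ∈ T, t * (p : Y) = (p : Y) * t := fun p t ht =>
    mem_centralizer_iff.1 (hPC p.2) t ht
  have huniq : ∀ a b c e : Y, a ∈ T → b ∈ T → c ∈ O → e ∈ O → a * c = b * e → a = b := by
    intro a b c e ha hb hc he h
    have h1 : b⁻¹ * a = e * c⁻¹ := by
      rw [eq_mul_inv_iff_mul_eq, mul_assoc, h, inv_mul_cancel_left]
    exact (inv_mul_eq_one.1 (eq_one_of_two_odd hT.isP hO (mul_mem (inv_mem hb) ha)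
      (h1 ▸ mul_mem he (inv_mem hc)))).symm
  let φ : P →* Y := MonoidHom.mk' z fun p q => by
    have hpO : (p : Y) * o q * (p : Y)⁻¹ ∈ O :=
      conj_mem (hON.trans' (centralizer_le_normalizer _)) (hPC p.2) (ho q)
    have hzq : (p : Y) * z q = z q * (p : Y) := (hcT p _ (hz q).1).symm
    have hoz : o p * z q = z q * o p := by
      have h1 : o p = (z p)⁻¹ * ⁅n, (p : Y)⁆ := by rw [← hzo p, inv_mul_cancel_left]
      have h2 : z q * ⁅n, (p : Y)⁆ = ⁅n, (p : Y)⁆ * z q := mem_centralizer_iff.1 (hK p).2 _ (hz q).1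
      have h3 : z q * (z p)⁻¹ = (z p)⁻¹ * z q :=
        mem_centralizer_iff.1 (inv_mem (hz p).2) _ (hz q).1
      rw [h1, mul_assoc, ← h2, ← mul_assoc, ← h3, mul_assoc]
    refine huniq _ _ (o (p * q)) (o p * ((p : Y) * o q * (p : Y)⁻¹)) (hz _).1
      (mul_mem (hz p).1 (hz q).1) (ho _) (mul_mem (ho p) hpO) ?_
    calc z (p * q) * o (p * q) = ⁅n, (p : Y) * (q : Y)⁆ := hzo (p * q)
      _ = ⁅n, (p : Y)⁆ * ((p : Y) * ⁅n, (q : Y)⁆ * (p : Y)⁻¹) := comm_mul_right _ _ _
      _ = (z p * o p) * ((p : Y) * (z q * o q) * (p : Y)⁻¹) := by rw [hzo p, hzo q]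
      _ = (z p * o p) * (((p : Y) * z q) * o q * (p : Y)⁻¹) := by group
      _ = (z p * o p) * ((z q * (p : Y)) * o q * (p : Y)⁻¹) := by rw [hzq]
      _ = z p * (o p * z q) * ((p : Y) * o q * (p : Y)⁻¹) := by group
      _ = z p * (z q * o p) * ((p : Y) * o q * (p : Y)⁻¹) := by rw [hoz]
      _ = _ := by group
  intro p hp
  have hker : ∀ x : P, φ x = 1 := by
    have h1 : (⁅P, P⁆ : Subgroup Y) ≤ φ.ker.map P.subtype := by
      rw [commutator_le]
      intro a ha b hb
      refine ⟨⁅(⟨a, ha⟩ : P), ⟨b, hb⟩⁆, ?_, rfl⟩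
      show φ _ = 1
      rw [map_commutatorElement, commutatorElement_eq_one_iff_mul_comm]
      exact mem_centralizer_iff.1 (hz ⟨b, hb⟩).2 _ (hz ⟨a, ha⟩).1
    intro x
    obtain ⟨y, hy, hyx⟩ := h1 (by rw [hP]; exact x.2)
    rwa [show x = y from Subtype.ext hyx.symm]
  have h1 : z ⟨p, hp⟩ = 1 := hker _
  rw [← hzo ⟨p, hp⟩, h1, one_mul]
  exact ho _

/-- moving a centric subgroup up inside its normalizer -/
theorem Centric.up [E.Normal] {T T1 : Subgroup Y} (hT : Centric E T) (hle : T ≤ T1)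
    (h1 : T1 ≤ E ⊓ normalizer (T : Set Y)) (h1p : IsPGroup 2 T1) :
    Centric E T1 ∧ perfCore (centralizer (T : Set Y)) ≤ perfCore (centralizer (T1 : Set Y)) ⊔ E := by
  haveI : Fact (Nat.Prime 2) := ⟨Nat.prime_two⟩
  refine ⟨⟨h1.trans inf_le_left, h1p, fun Q hQ hQle => (hT.max Q hQ (hQle.trans
    (inf_le_inf_left _ (centralizer_le hle)))).trans hle⟩, ?_⟩
  obtain ⟨O, hOK, hOodd, hON, hdec⟩ := hT.decomp
  set P := perfCore (centralizer (T : Set Y)) with hPdef
  have hP1 : P ≤ centralizer (T1 : Set Y) ⊔ E := by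
    intro p hp
    obtain ⟨n, hn⟩ := IsPGroup.iff_card.1 h1p
    obtain ⟨d, hd, hc⟩ := exists_fixed_in_coset (A := T1) (D := O) (k := p)
      ((h1.trans inf_le_right).trans hON)
      (by rw [hn]; exact (coprime_two_of_odd hOodd).symm.pow_left n)
      (Or.inl (by haveI := h1p.isNilpotent; exact inferInstance)) (fun t ht => by
        have h := hT.comm_mem hOodd hON hdec (perfCore_perfect _) (perfCore_le _) (h1 ht).2
          (fun q _ => by
            rw [commutatorElement_def, mul_assoc, mul_assoc]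
            refine mul_mem (h1 ht).1 ?_
            rw [← mul_assoc]
            exact (inferInstance : E.Normal).conj_mem _ (inv_mem (h1 ht).1) q) p⁻¹ (inv_mem hp)
        have h2 := inv_mem h
        rw [commutatorElement_inv, commutatorElement_def] at h2
        simpa using h2)
    rw [show p = p * d * d⁻¹ by group]
    exact mul_mem_sup hc (inv_mem (hOK hd).1)
  obtain ⟨X, hX, hXmap, hXperf⟩ := exists_perfect_cover' (QuotientGroup.mk' E)
    (X0 := centralizer (T1 : Set Y)) (M := P.map (QuotientGroup.mk' E))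
    ((Subgroup.map_mono hP1).trans (by rw [Subgroup.map_sup, QuotientGroup.map_mk'_self, sup_bot_eq]))
    (perfect_map _ (perfCore_perfect _))
  have h := Subgroup.map_eq_map_iff.1 hXmap
  rw [QuotientGroup.ker_mk'] at h
  exact le_sup_left.trans (h.ge.trans (sup_le_sup_right (le_perfCore hX hXperf) E))

theorem Centric.exists_sylow [E.Normal] {T : Subgroup Y} (hT : Centric E T) :
    ∃ S : Subgroup Y, Centric E S ∧ (∀ Q : Subgroup Y, IsPGroup 2 Q → Q ≤ E → S ≤ Q → Q = S) ∧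
      perfCore (centralizer (T : Set Y)) ≤ perfCore (centralizer (S : Set Y)) ⊔ E := by
  haveI : Fact (Nat.Prime 2) := ⟨Nat.prime_two⟩
  obtain ⟨S, ⟨hS, hle⟩, hmax⟩ := WellFounded.has_min (wellFounded_gt (α := Subgroup Y))
    {S | Centric E S ∧ perfCore (centralizer (T : Set Y)) ≤ perfCore (centralizer (S : Set Y)) ⊔ E}
    ⟨T, hT, le_sup_left⟩
  refine ⟨S, hS, fun Q hQ hQE hSQ => ?_, hle⟩
  by_contra hne
  haveI := hQ.isNilpotent
  have hlt : S.subgroupOf Q < ⊤ := lt_top_iff_ne_top.mpr fun h =>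
    hne (le_antisymm (subgroupOf_eq_top.mp h) hSQ)
  obtain ⟨x, hxn, hxS⟩ := SetLike.exists_of_lt
    (Group.normalizerCondition_of_isNilpotent (G := Q) _ hlt)
  rw [← subgroupOf_normalizer_eq hSQ] at hxn
  set T1 := Q ⊓ normalizer (S : Set Y)
  have hlt1 : S < T1 := lt_of_le_of_ne (le_inf hSQ le_normalizer) fun h =>
    hxS (show (x : Y) ∈ S by rw [h]; exact ⟨x.2, hxn⟩)
  obtain ⟨h1, h2⟩ := hS.up hlt1.le (inf_le_inf_right _ hQE) (hQ.to_le inf_le_left)
  exact hmax T1 ⟨h1, hle.trans (sup_le h2 le_sup_right)⟩ hlt1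

end Cfsg.Lib.CoprimeLayer
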