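import Cfsg.Agent.CoprimeLayer.Moved
import Cfsg.Agent.Components.GenFitting
import Cfsg.Agent.Components.Structure
import Cfsg.Agent.Components.PComponents

/-!
Commuting quasisimple subgroups moved by a coprime automorphism of prime order and permuted by its
fixed points lie in the layer.
-/

set_option autoImplicit false
set_option linter.unusedSectionVars false
set_option linter.style.haveILetI false

namespace Cfsg.Lib.CoprimeLayer

open Subgroup Cfsg.Lib.Coprime Cfsg.Lib.CommFixedGen Cfsg.Lib.Components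
open scoped commutatorElement

universe u

variable {X : Type u} [Group X]

theorem qs_perfect {K : Subgroup X} (h : Cfsg.IsQuasisimple K) : ⁅K, K⁆ = K :=
  haveI := h.1
  K.commutator_eq_self

theorem qs_ne_bot {K : Subgroup X} (h : Cfsg.IsQuasisimple K) : K ≠ ⊥ := by
  intro hb
  haveI := qs_nontrivial h
  exact (Subgroup.nontrivial_iff_ne_bot K).mp this hb

theorem perfect_sSup {s : Set (Subgroup X)} (h : ∀ K ∈ s, ⁅K, K⁆ = K) : ⁅sSup s, sSup s⁆ = sSup s := by
  refine le_antisymm (commutator_le_self _) (sSup_le fun K hK => ?_)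
  calc K = ⁅K, K⁆ := (h K hK).symm
    _ ≤ _ := commutator_mono (le_sSup hK) (le_sSup hK)

theorem perfect_iSup {ι : Sort*} {s : ι → Subgroup X} (h : ∀ i, ⁅s i, s i⁆ = s i) :
    ⁅iSup s, iSup s⁆ = iSup s := by
  refine le_antisymm (commutator_le_self _) (iSup_le fun i => ?_)
  calc s i = ⁅s i, s i⁆ := (h i).symm
    _ ≤ _ := commutator_mono (le_iSup s i) (le_iSup s i)

theorem le_normalizer_of_conjMap {N : Subgroup X} [Finite X] {g : X} (h : conjMap g N ≤ N) :
    g ∈ normalizer (N : Set X) := by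
  rw [← conjMap_eq_self_iff]
  exact Subgroup.eq_of_le_of_card_ge h (card_conjMap g N).ge

variable [Finite X]

/-- a quasisimple subgroup and a subgroup, each normalising the other -/
theorem qs_le_or_commute {K N : Subgroup X} (hK : Cfsg.IsQuasisimple K)
    (hNK : N ≤ normalizer (K : Set X)) (hKN : K ≤ normalizer (N : Set X)) :
    K ≤ N ∨ ⁅K, N⁆ = ⊥ := by
  set A := K ⊓ N with hA
  haveI : (A.subgroupOf K).Normal :=
    normal_subgroupOf_of_le_normalizer (le_normalizer_inf le_normalizer hKN)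
  rcases qs_subnormal_eq_top_or_le_center hK (Subgroup.Normal.isSubnormal (by assumption) : (A.subgroupOf K).IsSubnormal) with h | h
  · exact Or.inl ((subgroupOf_eq_top.1 h).trans inf_le_right)
  · right
    have hAK : ⁅A, K⁆ = ⊥ := by
      rw [eq_bot_iff, commutator_le]
      intro a ha k hk
      have := congrArg Subtype.val (mem_center_iff.1 (h (show (⟨a, ha.1⟩ : K) ∈ A.subgroupOf K from ha)) ⟨k, hk⟩)
      rw [mem_bot, commutatorElement_eq_one_iff_mul_comm]
      exact this.symm
    refine commutator_eq_bot_of_perfect (qs_perfect hK) (le_bot_iff.1 ?_)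
    refine (commutator_mono ?_ le_rfl).trans hAK.le
    refine le_inf ?_ (commutator_le.2 fun k hk n hn => ?_)
    · rw [commutator_comm, commutator_le]
      intro n hn k hk
      rw [commutatorElement_def]
      exact mul_mem ((mem_normalizer_iff.1 (hNK hn) k).1 hk) (Subgroup.inv_mem _ hk)
    · rw [commutatorElement_def]
      exact mul_mem ((mem_normalizer_iff.1 (hKN hk) n).1 hn) (Subgroup.inv_mem _ hn)

theorem qs_commute_solvable {K N : Subgroup X} (hK : Cfsg.IsQuasisimple K)
    (hNK : N ≤ normalizer (K : Set X)) (hKN : K ≤ normalizer (N : Set X))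
    (hN : Group.IsSolvable N) : ⁅K, N⁆ = ⊥ :=
  (qs_le_or_commute hK hNK hKN).resolve_left fun h =>
    qs_ne_bot hK (eq_bot_of_perfect_solvable (qs_perfect hK) h hN)

theorem commutator_le_left_of_le_normalizer {A K : Subgroup X} (h : A ≤ normalizer (K : Set X)) :
    ⁅K, A⁆ ≤ K := commutator_le_of_le_normalizer h

/-- the layer of a normal subgroup -/
theorem comp_layer_facts (G : Subgroup X) [G.Normal] :
    ((layer ↥G).map G.subtype).Normal ∧ ((fittingSubgroup ↥G).map G.subtype).Normal :=
  ⟨ConjAct.normal_of_characteristic_of_normal, ConjAct.normal_of_characteristic_of_normal⟩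

/-- in `X ⧸ C(L)` the image of the layer has trivial centralizer -/
theorem centralizer_layer_image (L : Subgroup X) [L.Normal] (hL : ⁅L, L⁆ = L) :
    centralizer ((L.map (QuotientGroup.mk' (centralizer (L : Set X))) :
      Subgroup (X ⧸ centralizer (L : Set X))) : Set (X ⧸ centralizer (L : Set X))) = ⊥ := by
  rw [eq_bot_iff]
  intro y hy
  obtain ⟨x, rfl⟩ := QuotientGroup.mk'_surjective (centralizer (L : Set X)) y
  rw [mem_bot]
  refine (QuotientGroup.eq_one_iff x).2 ?_
  have h1 : ⁅⁅L, zpowers x⁆, L⁆ = ⊥ := by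
    rw [commutator_eq_bot_iff_le_centralizer, commutator_le]
    intro l hl a ha
    refine (QuotientGroup.eq_one_iff (N := centralizer (L : Set X)) ⁅l, a⁆).1 ?_
    show QuotientGroup.mk' (centralizer (L : Set X)) ⁅l, a⁆ = 1
    rw [map_commutatorElement, commutatorElement_eq_one_iff_mul_comm]
    obtain ⟨i, rfl⟩ := mem_zpowers_iff.1 ha
    rw [map_zpow]
    exact mem_centralizer_iff.1 (zpow_mem hy i) _ (mem_map_of_mem _ hl)
  have h2 := commutator_eq_bot_iff_le_centralizer.1 (commutator_eq_bot_of_perfect hL h1)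
  exact le_centralizer_iff.1 h2 (mem_zpowers x)

/-- in `X ⧸ C(L)` the image of the layer has no odd normal subgroup -/
theorem odd_normal_layer_image (G : Subgroup X) [G.Normal] (L : Subgroup X) [L.Normal]
    (hLe : L = (layer ↥G).map G.subtype) (N : Subgroup (X ⧸ centralizer (L : Set X)))
    (hNE : N ≤ L.map (QuotientGroup.mk' (centralizer (L : Set X))))
    (hEN : L.map (QuotientGroup.mk' (centralizer (L : Set X))) ≤ normalizer (N : Set (X ⧸ centralizer (L : Set X))))
    (hodd : Odd (Nat.card N)) : N = ⊥ := by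
  set π := QuotientGroup.mk' (centralizer (L : Set X)) with hπ
  set N' := N.comap π ⊓ L with hN'
  have hN'n : L ≤ normalizer (N' : Set X) := by
    refine le_normalizer_inf ?_ le_normalizer
    intro l hl
    rw [mem_normalizer_iff]
    intro x
    simp only [mem_comap, map_mul, map_inv]
    exact mem_normalizer_iff.1 (hEN (mem_map_of_mem π hl)) (π x)
  haveI : Group.IsSolvable N := Cfsg.Agent.PF.isSolvable_of_odd N hodd
  let φ : N' →* N := (π.comp N'.subtype).codRestrict N fun x => x.2.1
  have hN'sol : Group.IsSolvable N' := by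
    haveI : Group.IsSolvable φ.ker := by
      refine Group.isSolvable_of_comm fun a b => Subtype.ext (Subtype.ext ?_)
      have ha : ((a : N') : X) ∈ centralizer (L : Set X) :=
        (QuotientGroup.eq_one_iff _).1 (congrArg Subtype.val a.2)
      exact (mem_centralizer_iff.1 ha _ (b : N').2.2).symm
    exact Group.isSolvable_of_ker_le_range φ.ker.subtype φ (by rw [range_subtype])
  have hcomm : L ≤ centralizer (N' : Set X) := by
    rw [hLe, layer, sSup_eq_iSup, Subgroup.map_iSup]
    refine iSup_le fun K => ?_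
    rw [Subgroup.map_iSup]
    refine iSup_le fun hK => ?_
    rw [← commutator_eq_bot_iff_le_centralizer]
    have hKc : IsComponent (K.map G.subtype) :=
      (comp_map_subtype_iff (Subgroup.Normal.isSubnormal inferInstance)).2 hK
    have hKL : K.map G.subtype ≤ L := hLe ▸ Subgroup.map_mono (comp_le_layer hK)
    exact comp_commute_of_solvable hKc hN'sol (hKL.trans hN'n)
  rw [eq_bot_iff]
  intro y hy
  obtain ⟨l, hl, rfl⟩ := hNE hy
  rw [mem_bot]
  exact (QuotientGroup.eq_one_iff l).2 (le_centralizer_iff.1 hcomm ⟨hy, hl⟩)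

/-- Commuting quasisimple subgroups, moved by `f`, permuted by `f` and `C_G(f)`. -/
theorem sSup_le_layer {G : Subgroup X} [G.Normal] {f : X} {r : ℕ} (hr : r.Prime) (hfr : f ^ r = 1)
    (hcop : ¬ r ∣ Nat.card G) {𝒦 : Set (Subgroup X)} (hq : ∀ K ∈ 𝒦, Cfsg.IsQuasisimple K)
    (hle : ∀ K ∈ 𝒦, K ≤ G) (hcomm : ∀ K ∈ 𝒦, ∀ K' ∈ 𝒦, K ≠ K' → ⁅K, K'⁆ = ⊥)
    (hinv : ∀ g : X, (g = f ∨ g ∈ G ⊓ centralizer ({f} : Set X)) → ∀ K ∈ 𝒦, conjMap g K ∈ 𝒦)
    (hMF : ⁅sSup 𝒦, zpowers f⁆ = sSup 𝒦) : sSup 𝒦 ≤ (layer ↥G).map G.subtype := by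
  obtain ⟨hLn, hFn⟩ := comp_layer_facts G
  set L := (layer ↥G).map G.subtype with hLdef
  set Fit := (fittingSubgroup ↥G).map G.subtype with hFit
  have hLG : L ≤ G := map_subtype_le _
  have hFG : Fit ≤ G := map_subtype_le _
  have hLperf : ⁅L, L⁆ = L := by rw [hLdef, ← map_commutator, layer_perfect]
  set M := sSup 𝒦 with hM
  have hMperf : ⁅M, M⁆ = M := perfect_sSup fun K hK => qs_perfect (hq K hK)
  have hMG : M ≤ G := sSup_le hle
  have hKn : ∀ K ∈ 𝒦, M ≤ normalizer (K : Set X) := fun K hK => sSup_le fun K' hK' => by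
    by_cases h : K' = K
    · exact h ▸ le_normalizer
    · exact (commutator_eq_bot_iff_le_centralizer.1 (hcomm K' hK' K hK h)).trans (centralizer_le_normalizer _)
  have hnorm : ∀ (P : Subgroup X → Prop), (∀ g : X, (g = f ∨ g ∈ G ⊓ centralizer ({f} : Set X)) →
      ∀ K ∈ 𝒦, P K → P (conjMap g K)) → ∀ g : X, (g = f ∨ g ∈ G ⊓ centralizer ({f} : Set X)) →
      g ∈ normalizer ((sSup {K | K ∈ 𝒦 ∧ P K} : Subgroup X) : Set X) := fun P hP g hg => by
    refine le_normalizer_of_conjMap ?_
    rw [conjMap, sSup_eq_iSup, Subgroup.map_iSup]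
    refine iSup_le fun K => ?_
    rw [Subgroup.map_iSup]
    exact iSup_le fun hK => le_iSup₂_of_le (conjMap g K) ⟨hinv g hg K hK.1, hP g hg K hK.1 hK.2⟩ le_rfl
  have hMn : ∀ g : X, (g = f ∨ g ∈ G ⊓ centralizer ({f} : Set X)) → g ∈ normalizer (M : Set X) := fun g hg => by
    have h := hnorm (fun _ => True) (fun _ _ _ _ _ => trivial) g hg
    simpa [hM] using h
  -- the fixed points of the Fitting subgroup
  have hcopM : ¬ r ∣ Nat.card M := fun h => hcop (h.trans (card_dvd_of_le hMG))
  haveI := isSolvable_fitting (G := ↥G)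
  have hFsol : Group.IsSolvable Fit := isSolvable_map (H := fittingSubgroup ↥G) inferInstance G.subtype
  have hMCF : M ≤ centralizer ((Fit ⊓ centralizer ({f} : Set X) : Subgroup X) : Set X) := by
    have hN : ⁅M ⊓ Fit, M⁆ = ⊥ := by
      rw [commutator_comm, commutator_eq_bot_iff_le_centralizer]
      refine sSup_le fun K hK => commutator_eq_bot_iff_le_centralizer.1 ?_
      refine qs_commute_solvable (hq K hK) (inf_le_left.trans (hKn K hK)) ?_
        (isSolvable_of_le inf_le_right hFsol)
      exact le_normalizer_inf ((le_sSup hK).trans le_normalizer) (by rw [normalizer_eq_top]; exact le_top)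
    rw [← commutator_eq_bot_iff_le_centralizer]
    refine commutator_eq_bot_of_perfect hMperf (le_bot_iff.1 ((commutator_mono ?_ le_rfl).trans hN.le))
    refine le_inf (commutator_le_of_le_normalizer fun g hg => hMn g (Or.inr ⟨hFG hg.1, hg.2⟩)) ?_
    exact (commutator_mono le_rfl inf_le_left).trans (commutator_le_right _ _)
  have hMFit : M ≤ centralizer (Fit : Set X) := by
    rw [le_centralizer_iff, hFit, fitting_eq_iSup_pCore, Subgroup.map_iSup]
    refine iSup_le fun q => ?_
    haveI : Fact q.1.Prime := ⟨q.2⟩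
    rw [le_centralizer_iff]
    haveI : ((pCore q.1 ↥G).map G.subtype).Normal := ConjAct.normal_of_characteristic_of_normal
    have hQF : (pCore q.1 ↥G).map G.subtype ≤ Fit :=
      Subgroup.map_mono ((le_iSup (fun p : {p : ℕ // p.Prime} => pCore p.1 ↥G) q).trans
        (iSup_pCore_le_fitting (G := ↥G)))
    exact perfect_centralizes_pGroup hr hfr (hMn f (Or.inl rfl)) hcopM hMperf hMF _
      ((isPGroup_pCore q.1).map _) (fun h => hcop (h.trans (card_dvd_of_le (hQF.trans hFG))))
      (by rw [normalizer_eq_top]; exact le_top) (by rw [normalizer_eq_top]; exact mem_top _)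
      (le_centralizer_iff.1 (hMCF.trans (centralizer_le (SetLike.coe_subset_coe.2 (inf_le_inf_right _ hQF)))))
  -- the part outside the layer
  set Mo := sSup {K | K ∈ 𝒦 ∧ ¬ K ≤ L} with hMo
  have hMoM : Mo ≤ M := sSup_le fun K hK => le_sSup hK.1
  have hMoperf : ⁅Mo, Mo⁆ = Mo := perfect_sSup fun K hK => qs_perfect (hq K hK.1)
  have hMon : ∀ g : X, (g = f ∨ g ∈ G ⊓ centralizer ({f} : Set X)) → g ∈ normalizer (Mo : Set X) :=
    hnorm (fun K => ¬ K ≤ L) fun g _ K _ hK h => hK fun x hx => by
      have := h (mem_map_of_mem (MulAut.conj g).toMonoidHom hx)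
      simpa [mul_assoc] using hLn.conj_mem _ this g⁻¹
  have hMoL : ⁅M ⊓ L, Mo⁆ = ⊥ := by
    rw [commutator_comm, commutator_eq_bot_iff_le_centralizer]
    refine sSup_le fun K hK => commutator_eq_bot_iff_le_centralizer.1 ?_
    refine (qs_le_or_commute (hq K hK.1) (inf_le_left.trans (hKn K hK.1)) ?_).resolve_left
      fun h => hK.2 (h.trans inf_le_right)
    exact le_normalizer_inf ((le_sSup hK.1).trans le_normalizer) (by rw [normalizer_eq_top]; exact le_top)
  have hMoCL : Mo ≤ centralizer ((L ⊓ centralizer ({f} : Set X) : Subgroup X) : Set X) := by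
    rw [← commutator_eq_bot_iff_le_centralizer]
    refine commutator_eq_bot_of_perfect hMoperf (le_bot_iff.1 ((commutator_mono ?_ le_rfl).trans hMoL.le))
    refine le_inf ((commutator_le_of_le_normalizer (A := L ⊓ centralizer ({f} : Set X)) (K := Mo) fun g hg => hMon g (Or.inr ⟨hLG hg.1, hg.2⟩)).trans hMoM) ?_
    exact (commutator_mono le_rfl inf_le_left).trans (commutator_le_right _ _)
  have hMoF : ⁅Mo, zpowers f⁆ = Mo := by
    have hfMo : zpowers f ≤ normalizer (Mo : Set X) := zpowers_le.2 (hMon f (Or.inl rfl))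
    set P := ⁅Mo, zpowers f⁆ with hP
    have hPle : P ≤ Mo := commutator_le_of_le_normalizer hfMo
    refine le_antisymm hPle ?_
    have hMs : M ≤ Mo ⊔ L := sSup_le fun K hK => by
      by_cases h : K ≤ L
      · exact h.trans le_sup_right
      · exact le_sup_of_le_left (le_sSup ⟨hK, h⟩)
    set π := QuotientGroup.mk' L with hπ
    have hπM : Mo.map π = M.map π := le_antisymm (Subgroup.map_mono hMoM)
      ((Subgroup.map_mono hMs).trans (by rw [Subgroup.map_sup, QuotientGroup.map_mk'_self, sup_bot_eq]))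
    have hπP : Mo.map π ≤ P.map π := by
      rw [hP, map_commutator, hπM, ← map_commutator, hMF]
    have hdec : ∀ a ∈ Mo, ∃ p ∈ P, ∃ z ∈ L ⊓ Mo, p * z = a := fun a ha => by
      obtain ⟨p, hp, hpa⟩ := hπP (mem_map_of_mem π ha)
      refine ⟨p, hp, p⁻¹ * a, ⟨?_, mul_mem (Subgroup.inv_mem _ (hPle hp)) ha⟩, mul_inv_cancel_left p a⟩
      show p⁻¹ * a ∈ L
      rw [← QuotientGroup.eq_one_iff (N := L)]
      show π (p⁻¹ * a) = 1
      rw [map_mul, map_inv, hpa, inv_mul_cancel]
    rw [← hMoperf, commutator_le]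
    intro a ha b hb
    obtain ⟨p, hp, z, hz, rfl⟩ := hdec a ha
    obtain ⟨p', hp', z', hz', rfl⟩ := hdec b hb
    have hc : ∀ w ∈ L ⊓ Mo, ∀ m ∈ Mo, w * m = m * w := fun w hw m hm =>
      (mem_centralizer_iff.1 (commutator_eq_bot_iff_le_centralizer.1 hMoL ⟨hMoM hw.2, hw.1⟩) m hm).symm
    have h3 : ⁅p * z, p' * z'⁆ = ⁅p, p'⁆ := by
      rw [comm_mul_left, comm_mul_right, comm_mul_right]
      have e1 : ⁅z, p'⁆ = 1 := commutatorElement_eq_one_iff_mul_comm.2 (hc z hz p' (hPle hp'))
      have e2 : ⁅z, z'⁆ = 1 := commutatorElement_eq_one_iff_mul_comm.2 (hc z hz z' hz'.2)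
      have e3 : ⁅p, z'⁆ = 1 := commutatorElement_eq_one_iff_mul_comm.2 (hc z' hz' p (hPle hp)).symm
      rw [e1, e2, e3]; group
    rw [h3, commutatorElement_def]
    exact mul_mem (mul_mem (mul_mem hp hp') (inv_mem hp)) (inv_mem hp')
  have hMoE : Mo.map (QuotientGroup.mk' (centralizer (L : Set X))) ≤
      L.map (QuotientGroup.mk' (centralizer (L : Set X))) := by
    set π := QuotientGroup.mk' (centralizer (L : Set X)) with hπ
    haveI : (L.map π).Normal := hLn.map π (QuotientGroup.mk'_surjective _)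
    refine le_of_moved (odd_normal_layer_image G L hLdef) (centralizer_layer_image L hLperf) hr
      (f := π f) (by rw [← map_pow, hfr, map_one]) (fun h => hcop (h.trans ((card_map_dvd _ _).trans (card_dvd_of_le hLG))))
      (fun h => hcop (h.trans ((card_map_dvd _ _).trans (card_dvd_of_le (hMoM.trans hMG)))))
      (perfect_map π hMoperf) (Subgroup.le_normalizer_map π (mem_map_of_mem π (hMon f (Or.inl rfl))))
      (by rw [← MonoidHom.map_zpowers, ← map_commutator, hMoF]) ?_
    rintro _ ⟨m, hm, rfl⟩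
    rw [mem_centralizer_iff]
    rintro _ ⟨⟨l, hl, rfl⟩, hfix⟩
    have hlf : π l * π f = π f * π l := mem_centralizer_singleton_iff.1 hfix
    set Z := L ⊓ centralizer (L : Set X)
    obtain ⟨d, hd, hc⟩ := exists_fixed_in_coset (A := zpowers f) (D := Z) (k := l)
      (by rw [normalizer_eq_top]; exact le_top)
      (coprime_zpowers hr hfr fun h => hcop (h.trans (card_dvd_of_le (inf_le_left.trans hLG))))
      (Or.inl inferInstance) (fun a ha => ⟨by
        rw [mul_assoc, mul_assoc, ← mul_assoc a]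
        exact mul_mem (Subgroup.inv_mem _ hl) (hLn.conj_mem l hl a), by
        refine (QuotientGroup.eq_one_iff _).1 ?_
        show π (l⁻¹ * a * l * a⁻¹) = 1
        obtain ⟨i, rfl⟩ := mem_zpowers_iff.1 ha
        rw [map_mul, map_mul, map_mul, map_inv, map_inv, map_zpow, mul_assoc (π l)⁻¹,
          ((show Commute (π l) (π f) from hlf).zpow_right i).symm.eq, inv_mul_cancel_left, mul_inv_cancel]⟩)
    rw [centralizer_zpowers] at hc
    have h1 := mem_centralizer_iff.1 (hMoCL hm) (l * d) ⟨mul_mem hl hd.1, hc⟩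
    have hd1 : π d = 1 := (QuotientGroup.eq_one_iff _).2 hd.2
    have h2 := congrArg π h1
    rwa [map_mul, map_mul, map_mul, map_mul, hd1, mul_one] at h2
  have hMoLF : Mo ≤ L ⊔ Fit := by
    intro m hm
    obtain ⟨l, hl, hlm⟩ := hMoE (mem_map_of_mem _ hm)
    have hc : l⁻¹ * m ∈ centralizer (L : Set X) := QuotientGroup.eq.1 hlm
    have hcG : l⁻¹ * m ∈ G := mul_mem (inv_mem (hLG hl)) (hMG (hMoM hm))
    have hlF : l ∈ centralizer (Fit : Set X) := by
      have h := commutator_eq_bot_iff_le_centralizer.1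
        (show ⁅L, Fit⁆ = ⊥ by rw [hLdef, hFit, ← map_commutator, layer_commute_fitting, Subgroup.map_bot])
      exact h hl
    have hcF : l⁻¹ * m ∈ centralizer (Fit : Set X) := mul_mem (inv_mem hlF) (hMFit (hMoM hm))
    have h1 : (⟨l⁻¹ * m, hcG⟩ : G) ∈ centralizer (generalizedFittingSubgroup ↥G : Set ↥G) := by
      have hle : generalizedFittingSubgroup ↥G ≤ centralizer ({⟨l⁻¹ * m, hcG⟩} : Set ↥G) := by
        refine sup_le (fun v hv => ?_) (fun v hv => ?_) <;> rw [mem_centralizer_singleton_iff] <;>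
          refine Subtype.ext ?_
        · exact mem_centralizer_iff.1 hc _ (mem_map_of_mem G.subtype hv)
        · exact mem_centralizer_iff.1 hcF _ (mem_map_of_mem G.subtype hv)
      rw [mem_centralizer_iff]
      exact fun v hv => (mem_centralizer_singleton_iff.1 (hle hv))
    have h2 := mem_map_of_mem G.subtype (centralizer_genFitting_le h1)
    rw [generalizedFittingSubgroup, Subgroup.map_sup] at h2
    have h3 := mul_mem (mem_sup_left hl : l ∈ L ⊔ Fit) h2
    rwa [show l * G.subtype ⟨l⁻¹ * m, hcG⟩ = m from mul_inv_cancel_left l m] at h3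
  have hMo' : Mo ≤ L := by
    set π := QuotientGroup.mk' L with hπ
    have h1 : Mo.map π ≤ Fit.map π := (Subgroup.map_mono hMoLF).trans
      (by rw [Subgroup.map_sup, QuotientGroup.map_mk'_self, bot_sup_eq])
    have h2 := eq_bot_of_perfect_solvable (perfect_map π hMoperf) h1 (isSolvable_map hFsol π)
    rwa [Subgroup.map_eq_bot_iff, QuotientGroup.ker_mk'] at h2
  refine sSup_le fun K hK => ?_
  by_cases h : K ≤ L
  · exact h
  · exact absurd ((le_sSup (show K ∈ {K | K ∈ 𝒦 ∧ ¬ K ≤ L} from ⟨hK, h⟩)).trans hMo') h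

end Cfsg.Lib.CoprimeLayer
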