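import Cfsg.Agent.CoprimeLayer.Solvable
import Cfsg.Agent.Coprime.Sylow
import Cfsg.Agent.FpfFusion.Rep
import Cfsg.Agent.SuzukiSolv.Basic
import Cfsg.Agent.PGroups.Basic

/-!
A perfect group moved by a coprime automorphism of prime order and centralising the fixed points
induces inner automorphisms of `E`.
-/

set_option autoImplicit false
set_option linter.unusedSectionVars false
set_option linter.style.haveILetI false

namespace Cfsg.Lib.CoprimeLayer

open Subgroup Cfsg.Lib.Coprime Cfsg.Lib.CommFixedGen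
open scoped commutatorElement

universe u

variable {G : Type u} [Group G]

theorem centralizer_zpowers (f : G) :
    centralizer (zpowers f : Set G) = centralizer ({f} : Set G) := by
  rw [zpowers_eq_closure, centralizer_closure]

theorem coprime_zpowers {r n : ℕ} (hr : r.Prime) {f : G} (hfr : f ^ r = 1) (h : ¬ r ∣ n) :
    (Nat.card (zpowers f)).Coprime n := by
  rw [Nat.card_zpowers]
  exact (hr.coprime_iff_not_dvd.2 h).coprime_dvd_left (orderOf_dvd_of_pow_eq_one hfr)

variable [Finite G]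

/-- a group with a normal `p`-subgroup of `2`-power index has no perfect quotient -/
theorem eq_bot_of_perfect_pTwo {p : ℕ} [Fact p.Prime] {D : Subgroup G} (hD : ⁅D, D⁆ = D)
    (h : Cfsg.Lib.CoprimeFpf.PTwo p D) : D = ⊥ := by
  haveI : Fact (Nat.Prime 2) := ⟨Nat.prime_two⟩
  obtain ⟨P, hPD, hDN, hP, hx⟩ := h
  haveI : (P.subgroupOf D).Normal := normal_subgroupOf_of_le_normalizer hDN
  have h2 : IsPGroup 2 (D ⧸ P.subgroupOf D) := fun q => by
    obtain ⟨y, rfl⟩ := QuotientGroup.mk_surjective q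
    obtain ⟨k, hk⟩ := hx y y.2
    exact ⟨k, (QuotientGroup.eq_one_iff _).2 (show ((y ^ 2 ^ k : D) : G) ∈ P by simpa using hk)⟩
  haveI := h2.isNilpotent
  have h3 := Cfsg.Lib.Components.map_eq_one_of_perfect_solvable hD (inferInstance : Group.IsSolvable (D ⧸ P.subgroupOf D))
    (QuotientGroup.mk' (P.subgroupOf D))
  have hle : D ≤ P := fun x hxD => (QuotientGroup.eq_one_iff (⟨x, hxD⟩ : D)).1 (h3 ⟨x, hxD⟩)
  haveI := hP.isNilpotent
  exact eq_bot_of_perfect_solvable hD hle inferInstance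

theorem perfect_centralizes_pGroup {p r : ℕ} [Fact p.Prime] (hr : r.Prime) {M : Subgroup G} {f : G}
    (hfr : f ^ r = 1) (hfM : f ∈ normalizer (M : Set G)) (hcopM : ¬ r ∣ Nat.card M)
    (hM : ⁅M, M⁆ = M) (hMF : ⁅M, zpowers f⁆ = M) :
    ∀ Q : Subgroup G, IsPGroup p Q → ¬ r ∣ Nat.card Q → M ≤ normalizer (Q : Set G) →
      f ∈ normalizer (Q : Set G) → Q ⊓ centralizer ({f} : Set G) ≤ centralizer (M : Set G) →
      M ≤ centralizer (Q : Set G) := by
  intro Q
  induction Q using WellFoundedLT.induction with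
  | ind Q ih =>
  intro hQp hcopQ hMQ hfQ hfix
  by_cases hQ0 : Q = ⊥
  · rw [hQ0]
    intro m _
    simp [mem_centralizer_iff]
  obtain ⟨V, ⟨hVQ, hVne, hMV, hfV⟩, hmax⟩ := WellFounded.has_min (wellFounded_gt (α := Subgroup G))
    {V | V ≤ Q ∧ V ≠ Q ∧ M ≤ normalizer (V : Set G) ∧ f ∈ normalizer (V : Set G)}
    ⟨⊥, bot_le, Ne.symm hQ0, fun g _ => by rw [normalizer_eq_top]; exact mem_top _, by rw [normalizer_eq_top]; exact mem_top _⟩
  set Φ := (frattini Q).map Q.subtype with hΦ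
  have hΦn : normalizer (Q : Set G) ≤ normalizer (Φ : Set G) :=
    normalizer_le_normalizer_char (frattini Q)
  have hΦV : Φ ≤ V := by
    by_contra hn
    refine hmax (Φ ⊔ V) ⟨sup_le (map_subtype_le _) hVQ, fun he => ?_,
      le_normalizer_sup (hMQ.trans hΦn) hMV, ?_⟩ (lt_of_le_of_ne le_sup_right fun e => hn (e ▸ le_sup_left))
    · have htop : V.subgroupOf Q ⊔ frattini Q = ⊤ := by
        apply Subgroup.map_injective Q.subtype_injective
        rw [Subgroup.map_sup, map_subgroupOf_eq_of_le hVQ, ← hΦ, sup_comm, he, ← MonoidHom.range_eq_map,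
          range_subtype]
      exact hVne (le_antisymm hVQ (subgroupOf_eq_top.1 (frattini_nongenerating htop)))
    · exact le_normalizer_sup (H := zpowers f) (zpowers_le.2 (hΦn hfQ)) (zpowers_le.2 hfV) (mem_zpowers f)
  have hΦV' : frattini Q ≤ V.subgroupOf Q := fun x hx => hΦV (mem_map_of_mem Q.subtype hx)
  haveI : (V.subgroupOf Q).Normal := ⟨fun v hv q => by
    have h1 : ⁅q, v⁆ ∈ V.subgroupOf Q := hΦV' (Cfsg.Lib.PGroups.commutator_le_frattini hQp
      (commutator_mem_commutator (mem_top q) (mem_top v)))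
    have h2 := mul_mem h1 hv
    rwa [commutatorElement_def, inv_mul_cancel_right] at h2⟩
  have hVC : M ≤ centralizer (V : Set G) := ih V (lt_of_le_of_ne hVQ hVne) (hQp.to_le hVQ)
    (fun h => hcopQ (h.trans (card_dvd_of_le hVQ))) hMV hfV ((inf_le_inf_right _ hVQ).trans hfix)
  by_cases hC : Q ≤ centralizer (M : Set G)
  · exact le_centralizer_iff.1 hC
  -- the fixed points of `f` on `Q ⧸ V` are trivial
  have hCV : Q ⊓ centralizer (M : Set G) ≤ V := by
    by_contra hn
    have hN : ∀ g : G, g ∈ normalizer (Q : Set G) → g ∈ normalizer (M : Set G) →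
        g ∈ normalizer ((Q ⊓ centralizer (M : Set G) : Subgroup G) : Set G) := fun g h1 h2 =>
      le_normalizer_inf (H := zpowers g) (zpowers_le.2 h1)
        (zpowers_le.2 (Cfsg.Lib.Components.normalizer_le_normalizer_centralizer' M h2)) (mem_zpowers g)
    refine hmax (Q ⊓ centralizer (M : Set G)) ⟨inf_le_left, fun e => hC (e ▸ inf_le_right),
      fun m hm => hN m (hMQ hm) (le_normalizer hm), hN f hfQ hfM⟩
      (lt_of_le_of_ne (le_inf hVQ (le_centralizer_iff.1 hVC)) fun e => hn (e ▸ le_rfl))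
  set G0 := M ⊔ zpowers f with hG0
  have hG0Q : G0 ≤ normalizer (Q : Set G) := sup_le hMQ (zpowers_le.2 hfQ)
  have hG0V : G0 ≤ normalizer (V : Set G) := sup_le hMV (zpowers_le.2 hfV)
  let ρ : G0 →* MulAut Q := Q.normalizerMonoidHom.comp (inclusion hG0Q)
  let ψ : G0 →* MulAut (Q ⧸ V.subgroupOf Q) := Cfsg.Lib.SuzukiSolv.quotAut ρ (V.subgroupOf Q)
    (fun k x hx => (mem_normalizer_iff.1 (hG0V k.2) _).1 hx)
  have hψ : ∀ (k : G0) (x : Q), ψ k (x : Q ⧸ V.subgroupOf Q) = x ↔ (k : G) * x * (k : G)⁻¹ * (x : G)⁻¹ ∈ V := by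
    intro k x
    show ((ρ k x : Q) : Q ⧸ V.subgroupOf Q) = x ↔ _
    rw [QuotientGroup.eq_iff_div_mem, div_eq_mul_inv]
    rfl
  set f' : G0 := ⟨f, mem_sup_right (mem_zpowers f)⟩ with hf'
  have hfixq : ∀ x, ψ f' x = x → x = 1 := by
    intro q hq
    obtain ⟨x, rfl⟩ := QuotientGroup.mk_surjective q
    rw [QuotientGroup.eq_one_iff]
    have hpow : ∀ a ∈ zpowers f, (x : G)⁻¹ * a * x * a⁻¹ ∈ V := by
      intro a ha
      obtain ⟨i, rfl⟩ := mem_zpowers_iff.1 ha
      have h1 : ψ (f' ^ i) (x : Q ⧸ V.subgroupOf Q) = x := by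
        rw [map_zpow]
        exact (zpow_mem (show ψ f' ∈ MulAction.stabilizer (MulAut (Q ⧸ V.subgroupOf Q)) (x : Q ⧸ V.subgroupOf Q) from hq) i)
      have h2 := (hψ _ x).1 h1
      have h3 : (x : G)⁻¹ * (f ^ i * x * (f ^ i)⁻¹ * (x : G)⁻¹) * x ∈ V := by
        have := (inferInstance : (V.subgroupOf Q).Normal).conj_mem
          ⟨_, hVQ h2⟩ (show _ ∈ V.subgroupOf Q from h2) x⁻¹
        simpa [mem_subgroupOf] using this
      rwa [show (x : G)⁻¹ * f ^ i * x * (f ^ i)⁻¹ = (x : G)⁻¹ * (f ^ i * x * (f ^ i)⁻¹ * (x : G)⁻¹) * x by group]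
    obtain ⟨n, hn, hc⟩ := exists_fixed_in_coset (A := zpowers f) (D := V) (k := (x : G))
      (zpowers_le.2 hfV) (coprime_zpowers hr hfr fun h => hcopQ (h.trans (card_dvd_of_le hVQ)))
      (Or.inl inferInstance) hpow
    rw [centralizer_zpowers] at hc
    have hxnQ : (x : G) * n ∈ Q := mul_mem x.2 (hVQ hn)
    have h1 := hCV ⟨hxnQ, hfix ⟨hxnQ, hc⟩⟩
    exact (mul_mem_cancel_right hn).1 h1
  letI : CommGroup (Q ⧸ V.subgroupOf Q) :=
    { (inferInstance : Group (Q ⧸ V.subgroupOf Q)) with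
      mul_comm := (Subgroup.Normal.quotient_commutative_iff_commutator_le.mpr
        ((Cfsg.Lib.PGroups.commutator_le_frattini hQp).trans hΦV')).1.1 }
  have hexp : ∀ q : Q ⧸ V.subgroupOf Q, q ^ p = 1 := fun q => by
    obtain ⟨x, rfl⟩ := QuotientGroup.mk_surjective q
    rw [← QuotientGroup.mk_pow, QuotientGroup.eq_one_iff]
    exact hΦV' (Cfsg.Lib.PGroups.pow_mem_frattini hQp x)
  have ha : orderOf (ψ f') = r := by
    haveI := Fact.mk hr
    refine orderOf_eq_prime ?_ fun h1 => ?_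
    · rw [← map_pow, show f' ^ r = 1 from Subtype.ext hfr, map_one]
    · refine hVne (le_antisymm hVQ fun x hx => ?_)
      have h2 := hfixq ((⟨x, hx⟩ : Q) : Q ⧸ V.subgroupOf Q) (by rw [h1]; rfl)
      exact (QuotientGroup.eq_one_iff (N := V.subgroupOf Q) (⟨x, hx⟩ : Q)).1 h2
  set H := (M.subgroupOf G0).map ψ with hH
  have hMG0 : M ≤ G0 := le_sup_left
  have hzp : zpowers (ψ f') = (zpowers f').map ψ := (MonoidHom.map_zpowers ψ f').symm
  have hMF' : ⁅M.subgroupOf G0, zpowers f'⁆ = M.subgroupOf G0 := by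
    apply Subgroup.map_injective G0.subtype_injective
    rw [map_commutator, map_subgroupOf_eq_of_le hMG0, MonoidHom.map_zpowers]
    exact hMF
  have hHperf : ⁅H, H⁆ = H := by
    rw [hH, ← map_commutator]
    congr 1
    apply Subgroup.map_injective G0.subtype_injective
    rw [map_commutator, map_subgroupOf_eq_of_le hMG0, hM]
  have hn : ψ f' ∈ normalizer (H : Set (MulAut (Q ⧸ V.subgroupOf Q))) := by
    refine Subgroup.le_normalizer_map ψ (mem_map_of_mem ψ ?_)
    rw [← subgroupOf_normalizer_eq hMG0]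
    exact hfM
  have hcopH : ¬ r ∣ Nat.card H := fun h => hcopM (h.trans ((card_map_dvd _ _).trans
    (Nat.card_congr (subgroupOfEquivOfLe hMG0).toEquiv).dvd))
  have hPT := Cfsg.Lib.FpfFusion.pTwo_aut (p := p) hexp hr H (ψ f') ha hn hcopH hfixq
  rw [hH, hzp, ← map_commutator, hMF', ← hH] at hPT
  have hH0 : H = ⊥ := eq_bot_of_perfect_pTwo hHperf hPT
  have hle : ⁅M, Q⁆ ≤ V := by
    rw [commutator_le]
    intro m hm q hq
    have h1 : ψ ⟨m, hMG0 hm⟩ = 1 := by
      have : ψ ⟨m, hMG0 hm⟩ ∈ H := mem_map_of_mem ψ (show (⟨m, hMG0 hm⟩ : G0) ∈ M.subgroupOf G0 from hm)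
      rwa [hH0, mem_bot] at this
    have h2 := (hψ ⟨m, hMG0 hm⟩ ⟨q, hq⟩).1 (by rw [h1]; rfl)
    rwa [commutatorElement_def]
  refine commutator_eq_bot_iff_le_centralizer.1 ?_
  refine Cfsg.Lib.Components.commutator_eq_bot_of_perfect hM (le_bot_iff.1 ?_)
  refine (commutator_mono hle le_rfl).trans (le_bot_iff.2 ?_)
  rw [commutator_eq_bot_iff_le_centralizer]
  exact le_centralizer_iff.1 hVC

/-- the moved perfect group induces inner automorphisms -/
theorem le_of_moved {E : Subgroup G} [E.Normal]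
    (hOE : ∀ N : Subgroup G, N ≤ E → E ≤ normalizer (N : Set G) → Odd (Nat.card N) → N = ⊥)
    (hC : centralizer (E : Set G) = ⊥) {r : ℕ} (hr : r.Prime) {f : G} (hfr : f ^ r = 1)
    (hcopE : ¬ r ∣ Nat.card E) {M : Subgroup G} (hcopM : ¬ r ∣ Nat.card M) (hM : ⁅M, M⁆ = M)
    (hfM : f ∈ normalizer (M : Set G)) (hMF : ⁅M, zpowers f⁆ = M)
    (hfix : M ≤ centralizer ((E ⊓ centralizer ({f} : Set G) : Subgroup G) : Set G)) : M ≤ E := by
  haveI : Fact (Nat.Prime 2) := ⟨Nat.prime_two⟩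
  set C := E ⊓ centralizer ({f} : Set G) with hCdef
  obtain ⟨S0⟩ := (inferInstance : Nonempty (Sylow 2 C))
  set Q0 := (S0 : Subgroup C).map C.subtype with hQ0
  have hQ0C : Q0 ≤ C := map_subtype_le _
  have hQ0p : IsPGroup 2 Q0 := S0.2.map _
  have hfQ0 : f ∈ centralizer (Q0 : Set G) :=
    mem_centralizer_iff.2 fun q hq => (mem_centralizer_singleton_iff.1 (hQ0C hq).2)
  have hMQ0 : M ≤ centralizer (Q0 : Set G) := hfix.trans (centralizer_le hQ0C)
  set U := E ⊓ centralizer (Q0 : Set G) with hU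
  have hCU : centralizer (Q0 : Set G) ≤ normalizer (U : Set G) :=
    le_normalizer_inf (fun g _ => by rw [normalizer_eq_top]; exact mem_top _) le_normalizer
  have hcop : (Nat.card (zpowers f)).Coprime (Nat.card U) :=
    coprime_zpowers hr hfr fun h => hcopE (h.trans (card_dvd_of_le inf_le_left))
  obtain ⟨S2, hS2⟩ := exists_invariant_sylow (A := zpowers f) (K := U)
    (zpowers_le.2 (hCU hfQ0)) hcop (Or.inl inferInstance) 2
  set Q2 := (S2 : Subgroup U).map U.subtype with hQ2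
  have hQ2U : Q2 ≤ U := map_subtype_le _
  have hQ2p : IsPGroup 2 Q2 := S2.2.map _
  have hQ2max : ∀ R : Subgroup G, IsPGroup 2 R → R ≤ U → Q2 ≤ R → R = Q2 := fun R hR hRU hle => by
    have h := S2.3 (hR.comap_subtype (K := U)) (fun x hx => hle (mem_map_of_mem U.subtype hx))
    rw [hQ2, ← h]
    exact (map_subgroupOf_eq_of_le hRU).symm
  set X0 := (U ⊔ M) ⊓ normalizer (Q2 : Set G) with hX0
  have hfX0 : zpowers f ≤ normalizer (X0 : Set G) := by
    refine le_normalizer_inf (le_normalizer_sup (zpowers_le.2 (hCU hfQ0)) (zpowers_le.2 hfM)) ?_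
    exact hS2.trans le_normalizer
  have hMX0 : M.map (QuotientGroup.mk' E) ≤ X0.map (QuotientGroup.mk' E) := by
    rintro _ ⟨m, hm, rfl⟩
    have hle : conjMap m Q2 ≤ U := by
      have := conjMap_mono (g := m) hQ2U
      rwa [conjMap_eq_self (hCU (hMQ0 hm))] at this
    obtain ⟨k, hk⟩ := MulAction.exists_smul_eq U S2 (Sylow.ofCard ((conjMap m Q2).subgroupOf U) (by
      rw [Nat.card_congr (subgroupOfEquivOfLe hle).toEquiv, card_conjMap, hQ2,
        Subgroup.card_map_of_injective U.subtype_injective, S2.card_eq_multiplicity]))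
    have h2 : conjMap (k : G) Q2 = conjMap m Q2 := by
      rw [hQ2, ← map_subtype_smul, hk, Sylow.coe_ofCard, map_subgroupOf_eq_of_le hle]
    refine ⟨(k : G)⁻¹ * m, ⟨mul_mem (Subgroup.inv_mem _ (mem_sup_left k.2)) (mem_sup_right hm), ?_⟩, ?_⟩
    · show (k : G)⁻¹ * m ∈ normalizer (Q2 : Set G)
      rw [← conjMap_eq_self_iff, ← conjMap_mul, ← h2, conjMap_inv_conjMap]
    · have hk1 : (QuotientGroup.mk' E) (k : G) = 1 := (QuotientGroup.eq_one_iff _).2 k.2.1
      rw [map_mul, map_inv, hk1, inv_one, one_mul]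
  obtain ⟨X, hXX0, hXmap, hXperf, hfX, hXF⟩ := exists_perfect_cover (QuotientGroup.mk' E) hfX0
    (le_normalizer_map _ (zpowers_le.2 hfM)) hMX0 (perfect_map _ hM)
  have hXF' : ⁅X, zpowers f⁆ = X := hXF (by rw [← map_commutator, hMF])
  have hXQ0 : X ≤ centralizer (Q0 : Set G) :=
    hXX0.trans (inf_le_left.trans (sup_le inf_le_right hMQ0))
  have hMU : M ≤ normalizer (U : Set G) := hMQ0.trans hCU
  have hcopX : ¬ r ∣ Nat.card X := fun h => by
    have h1 : r ∣ Nat.card U * Nat.card M := by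
      rw [← card_sup_mul_card_inf hMU]
      exact (h.trans (card_dvd_of_le (hXX0.trans inf_le_left))).mul_right _
    rcases hr.dvd_mul.1 h1 with h2 | h2
    · exact hcopE (h2.trans (card_dvd_of_le inf_le_left))
    · exact hcopM h2
  have hQ0Q2 : Q2 ≤ normalizer (Q0 : Set G) :=
    (hQ2U.trans inf_le_right).trans (centralizer_le_normalizer _)
  have hfix2 : Q2 ⊓ centralizer ({f} : Set G) ≤ centralizer (X : Set G) := by
    have hR : Q2 ⊓ centralizer ({f} : Set G) ≤ Q0 := by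
      have hle : Q2 ⊓ centralizer ({f} : Set G) ⊔ Q0 ≤ C :=
        sup_le (inf_le_inf_right _ (hQ2U.trans inf_le_left)) hQ0C
      have hp := (hQ2p.to_le (inf_le_left : Q2 ⊓ centralizer ({f} : Set G) ≤ Q2)).to_sup_of_normal_right' hQ0p
        (inf_le_left.trans hQ0Q2)
      have h := S0.3 (hp.comap_subtype (K := C)) (fun x hx => mem_sup_right (mem_map_of_mem C.subtype hx))
      intro x hx
      have hx' : (⟨x, hle (mem_sup_left hx)⟩ : C) ∈ (S0 : Subgroup C) := by
        rw [← h]; exact mem_sup_left hx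
      exact mem_map_of_mem C.subtype hx'
    exact hR.trans (le_centralizer_iff.1 hXQ0)
  have hXQ2 : X ≤ centralizer (Q2 : Set G) :=
    perfect_centralizes_pGroup hr hfr (hfX (mem_zpowers f)) hcopX hXperf hXF' Q2 hQ2p
      (fun h => hcopE (h.trans (card_dvd_of_le (hQ2U.trans inf_le_left))))
      (hXX0.trans inf_le_right) (hS2 (mem_zpowers f)) hfix2
  have hT : Centric E (Q2 ⊔ Q0) := by
    refine ⟨sup_le (hQ2U.trans inf_le_left) (hQ0C.trans inf_le_left),
      hQ2p.to_sup_of_normal_right' hQ0p hQ0Q2, fun R hR hRle => ?_⟩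
    have hRU : R ≤ U := hRle.trans (inf_le_inf_left _ (centralizer_le (SetLike.coe_subset_coe.2 le_sup_right)))
    have hRQ2 : R ≤ normalizer (Q2 : Set G) :=
      ((hRle.trans inf_le_right).trans (centralizer_le (SetLike.coe_subset_coe.2 le_sup_left))).trans (centralizer_le_normalizer _)
    rw [← hQ2max (R ⊔ Q2) (hR.to_sup_of_normal_right' hQ2p hRQ2) (sup_le hRU hQ2U) le_sup_right]
    exact le_sup_left.trans le_sup_left
  have hX0' : X = ⊥ := eq_bot_of_centric hOE hC hT hXperf (by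
    rw [le_centralizer_iff]
    exact sup_le (le_centralizer_iff.1 hXQ2) (le_centralizer_iff.1 hXQ0))
  rw [hX0', Subgroup.map_bot, eq_comm, Subgroup.map_eq_bot_iff, QuotientGroup.ker_mk'] at hXmap
  exact hXmap

end Cfsg.Lib.CoprimeLayer
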