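import Cfsg.Agent.Coprime.Action
import Cfsg.Agent.Coprime.CommutatorFixedGeneration
import Cfsg.Agent.Components.Layer

/-!
The perfect core of a subgroup, and perfect subgroups covering a perfect image.
-/

set_option autoImplicit false
set_option linter.unusedSectionVars false
set_option linter.style.haveILetI false

namespace Cfsg.Lib.CoprimeLayer

open Subgroup Cfsg.Lib.Coprime Cfsg.Lib.CommFixedGen
open scoped commutatorElement

variable {G : Type*} [Group G]

/-- the subgroup generated by the perfect subgroups of `C` -/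
def perfCore (C : Subgroup G) : Subgroup G := sSup {P : Subgroup G | P ≤ C ∧ ⁅P, P⁆ = P}

theorem perfCore_le (C : Subgroup G) : perfCore C ≤ C := sSup_le fun _ h => h.1

theorem le_perfCore {P C : Subgroup G} (h : P ≤ C) (hP : ⁅P, P⁆ = P) : P ≤ perfCore C :=
  le_sSup ⟨h, hP⟩

theorem perfCore_perfect (C : Subgroup G) : ⁅perfCore C, perfCore C⁆ = perfCore C := by
  refine le_antisymm (commutator_le_self _) (sSup_le fun P hP => ?_)
  calc P = ⁅P, P⁆ := hP.2.symm
    _ ≤ ⁅perfCore C, perfCore C⁆ := commutator_mono (le_perfCore hP.1 hP.2) (le_perfCore hP.1 hP.2)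

theorem conjMap_perfCore_le {C : Subgroup G} {n : G} (hn : n ∈ normalizer (C : Set G)) :
    conjMap n (perfCore C) ≤ perfCore C := by
  rw [conjMap, perfCore, sSup_eq_iSup, Subgroup.map_iSup]
  refine iSup_le fun P => ?_
  rw [Subgroup.map_iSup]
  refine iSup_le fun hP => ?_
  refine le_iSup₂_of_le (P.map (MulAut.conj n).toMonoidHom) ⟨?_, by rw [← map_commutator, hP.2]⟩ le_rfl
  have h := conjMap_mono (g := n) hP.1
  rwa [conjMap_eq_self hn] at h

theorem normalizer_le_normalizer_perfCore (C : Subgroup G) :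
    normalizer (C : Set G) ≤ normalizer (perfCore C : Set G) := by
  intro n hn
  rw [← conjMap_eq_self_iff]
  refine le_antisymm (conjMap_perfCore_le hn) ?_
  have h := conjMap_mono (g := n) (conjMap_perfCore_le (Subgroup.inv_mem _ hn))
  rwa [conjMap_conjMap_inv] at h

/-- the normalizer of `K` normalises the characteristic subgroups of `K` -/
theorem normalizer_le_normalizer_char {K : Subgroup G} (C : Subgroup K) [C.Characteristic] :
    normalizer (K : Set G) ≤ normalizer (C.map K.subtype : Set G) := by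
  intro n hn
  rw [← conjMap_eq_self_iff]
  have h := characteristic_iff_map_eq.mp (inferInstance : C.Characteristic) (K.normalizerMonoidHom ⟨n, hn⟩)
  conv_rhs => rw [← h]
  rw [conjMap, Subgroup.map_map, Subgroup.map_map]
  rfl

theorem le_normalizer_map {G' : Type*} [Group G'] {H K : Subgroup G} (π : G →* G')
    (h : H ≤ normalizer (K : Set G)) : H.map π ≤ normalizer (K.map π : Set G') :=
  (Subgroup.map_mono h).trans (Subgroup.le_normalizer_map π)

theorem perfect_map {G' : Type*} [Group G'] {P : Subgroup G} (π : G →* G') (hP : ⁅P, P⁆ = P) :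
    ⁅P.map π, P.map π⁆ = P.map π := by
  rw [← map_commutator, hP]

/-- a perfect image is covered by a perfect subgroup, compatibly with a group acting -/
theorem exists_perfect_cover [Finite G] {G' : Type*} [Group G'] (π : G →* G') {X0 F : Subgroup G}
    {M : Subgroup G'} (hF : F ≤ normalizer (X0 : Set G)) (hFM : F.map π ≤ normalizer (M : Set G'))
    (hX0 : M ≤ X0.map π) (hM : ⁅M, M⁆ = M) :
    ∃ X ≤ X0, X.map π = M ∧ ⁅X, X⁆ = X ∧ F ≤ normalizer (X : Set G) ∧
      (⁅M, F.map π⁆ = M → ⁅X, F⁆ = X) := by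
  obtain ⟨X, ⟨hXX0, hXF, hXM⟩, hmin⟩ := WellFounded.has_min (wellFounded_lt (α := Subgroup G))
    {X | X ≤ X0 ∧ F ≤ normalizer (X : Set G) ∧ X.map π = M} ⟨X0 ⊓ M.comap π, inf_le_left,
      le_normalizer_inf hF (fun x hx => by
        rw [Subgroup.mem_normalizer_iff]
        intro y
        simp only [Subgroup.mem_comap, map_mul, map_inv]
        exact Subgroup.mem_normalizer_iff.mp (hFM (mem_map_of_mem π hx)) (π y)),
      le_antisymm ((Subgroup.map_mono inf_le_right).trans (map_comap_le _ _)) (fun m hm => by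
        obtain ⟨x, hx, rfl⟩ := hX0 hm
        exact mem_map_of_mem π ⟨hx, hm⟩)⟩
  have hsmall : ∀ Z : Subgroup G, Z ≤ X → F ≤ normalizer (Z : Set G) → Z.map π = M → Z = X := fun Z hZ h1 h2 => by
    by_contra hne
    exact hmin Z ⟨hZ.trans hXX0, h1, h2⟩ (lt_of_le_of_ne hZ hne)
  refine ⟨X, hXX0, hXM, ?_, hXF, fun hMF => ?_⟩
  · exact hsmall _ (commutator_le_self _) (le_normalizer_commutator hXF hXF)
      (by rw [map_commutator, hXM, hM])
  · exact hsmall _ (commutator_le_of_le_normalizer hXF) (le_normalizer_commutator_right F X)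
      (by rw [map_commutator, hXM, hMF])

/-- the version without an acting group -/
theorem exists_perfect_cover' [Finite G] {G' : Type*} [Group G'] (π : G →* G') {X0 : Subgroup G}
    {M : Subgroup G'} (hX0 : M ≤ X0.map π) (hM : ⁅M, M⁆ = M) :
    ∃ X ≤ X0, X.map π = M ∧ ⁅X, X⁆ = X := by
  obtain ⟨X, h1, h2, h3, -⟩ := exists_perfect_cover π (F := ⊥) bot_le (by simp) hX0 hM
  exact ⟨X, h1, h2, h3⟩

/-- a perfect subgroup of a solvable group is trivial -/
theorem eq_bot_of_perfect_solvable {P K : Subgroup G} (hP : ⁅P, P⁆ = P) (h : P ≤ K)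
    (hK : Group.IsSolvable K) : P = ⊥ := by
  haveI := isSolvable_of_le h hK
  have hd : ∀ n, (⊤ : Subgroup P) ≤ derivedSeries P n := by
    intro n
    induction n with
    | zero => simp
    | succ n ih =>
      rw [derivedSeries_succ]
      refine le_trans ?_ (commutator_mono ih ih)
      refine le_of_eq (Subgroup.map_injective P.subtype_injective ?_)
      rw [map_commutator, ← MonoidHom.range_eq_map, P.range_subtype, hP]
  obtain ⟨n, hn⟩ := Group.IsSolvable.solvable (G := P)
  have h1 : (⊤ : Subgroup P) = ⊥ := le_bot_iff.mp ((hd n).trans hn.le)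
  rw [← P.range_subtype, MonoidHom.range_eq_map, h1, Subgroup.map_bot]

end Cfsg.Lib.CoprimeLayer
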