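import Cfsg.Agent.CoprimeLayer.Layer
import Cfsg.Agent.Thompson.FixedPointFree

/-!
Invariant subgroups equal to their commutator with a coprime automorphism of prime order, and
quasisimple subgroups commuting with their other conjugates under it and its fixed points.
-/

set_option autoImplicit false
set_option linter.unusedSectionVars false
set_option linter.style.haveILetI false

namespace Cfsg.Lib.CoprimeLayer

open Subgroup Cfsg.Lib.Coprime Cfsg.Lib.CommFixedGen Cfsg.Lib.Components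
open scoped commutatorElement

universe u

variable {X : Type u} [Group X] [Finite X]

theorem qs_conjMap {K : Subgroup X} (h : Cfsg.IsQuasisimple K) (g : X) :
    Cfsg.IsQuasisimple ↥(conjMap g K) :=
  qs_congr' (K.equivMapOfInjective _ (MulAut.conj g).injective) h

theorem conjMap_le_centralizer_iff {K : Subgroup X} {f g : X} (hg : g * f = f * g) :
    conjMap g K ≤ centralizer ({f} : Set X) ↔ K ≤ centralizer ({f} : Set X) := by
  have key : ∀ h : X, h * f = f * h → ∀ A : Subgroup X, A ≤ centralizer ({f} : Set X) →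
      conjMap h A ≤ centralizer ({f} : Set X) := fun h hh A hA x hx => by
    obtain ⟨y, hy, rfl⟩ := hx
    have hhC : h ∈ centralizer ({f} : Set X) := mem_centralizer_singleton_iff.2 hh
    exact mul_mem (mul_mem hhC (hA hy)) (inv_mem hhC)
  refine ⟨fun h => ?_, key g hg K⟩
  have := key g⁻¹ (Commute.inv_left (show Commute g f from hg)).eq _ h
  rwa [conjMap_inv_conjMap] at this

/-- moved commuting quasisimple subgroups give a subgroup equal to its commutator with `f` -/
theorem moved_commutator {f : X} {𝒦 : Set (Subgroup X)} (hq : ∀ K ∈ 𝒦, Cfsg.IsQuasisimple K)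
    (hcomm : ∀ K ∈ 𝒦, ∀ K' ∈ 𝒦, K ≠ K' → ⁅K, K'⁆ = ⊥)
    (hf : ∀ K ∈ 𝒦, conjMap f K ∈ 𝒦) (hmov : ∀ K ∈ 𝒦, ¬ K ≤ centralizer ({f} : Set X)) :
    ⁅sSup 𝒦, zpowers f⁆ = sSup 𝒦 := by
  set M := sSup 𝒦 with hM
  have hfM : zpowers f ≤ normalizer (M : Set X) := zpowers_le.2 (le_normalizer_of_conjMap (by
    rw [conjMap, hM, sSup_eq_iSup, Subgroup.map_iSup]
    refine iSup_le fun K => ?_
    rw [Subgroup.map_iSup]
    exact iSup_le fun hK => le_iSup₂_of_le (conjMap f K) (hf K hK) le_rfl))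
  have hle : ⁅M, zpowers f⁆ ≤ M := commutator_le_of_le_normalizer hfM
  refine le_antisymm hle (sSup_le fun K hK => ?_)
  have hKn : M ≤ normalizer (K : Set X) := sSup_le fun K' hK' => by
    by_cases h : K' = K
    · exact h ▸ le_normalizer
    · exact (commutator_eq_bot_iff_le_centralizer.1 (hcomm K' hK' K hK h)).trans (centralizer_le_normalizer _)
  have hKN : K ≤ normalizer ((⁅M, zpowers f⁆ : Subgroup X) : Set X) :=
    (le_sSup hK).trans (le_normalizer_commutator_left (zpowers f) M)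
  refine (qs_le_or_commute (hq K hK) (hle.trans hKn) hKN).resolve_right fun h => hmov K hK ?_
  rw [← centralizer_zpowers, ← commutator_eq_bot_iff_le_centralizer]
  refine commutator_eq_bot_of_perfect (qs_perfect (hq K hK)) (le_bot_iff.1 ?_)
  refine (commutator_mono (commutator_mono (le_sSup hK) le_rfl) le_rfl).trans ?_
  rw [commutator_comm, h]

/-- the layer of an invariant subgroup `H = [H, f]` lies in the layer -/
theorem layer_le_layer_of_moved {G : Subgroup X} [G.Normal] {f : X} {r : ℕ} (hr : r.Prime)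
    (hfr : f ^ r = 1) (hcop : ¬ r ∣ Nat.card G) {H : Subgroup X} (hHG : H ≤ G)
    (hinv : ∀ g : X, (g = f ∨ g ∈ G ⊓ centralizer ({f} : Set X)) → g ∈ normalizer (H : Set X))
    (hHF : ⁅H, zpowers f⁆ = H) : (layer ↥H).map H.subtype ≤ (layer ↥G).map G.subtype := by
  set Ω : Set (Subgroup X) := {K | ∃ C : Subgroup H, IsComponent C ∧ C.map H.subtype = K} with hΩ
  have hqΩ : ∀ K ∈ Ω, Cfsg.IsQuasisimple K := by
    rintro _ ⟨C, hC, rfl⟩
    exact qs_congr' (C.equivMapOfInjective _ H.subtype_injective) hC.2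
  have hcΩ : ∀ K ∈ Ω, ∀ K' ∈ Ω, K ≠ K' → ⁅K, K'⁆ = ⊥ := by
    rintro _ ⟨C, hC, rfl⟩ _ ⟨C', hC', rfl⟩ hne
    rw [← map_commutator, comp_commute hC hC' fun h => hne (h ▸ rfl), Subgroup.map_bot]
  have hΩH : ∀ K ∈ Ω, K ≤ H := by rintro _ ⟨C, -, rfl⟩; exact map_subtype_le C
  have hΩn : ∀ g ∈ normalizer (H : Set X), ∀ K ∈ Ω, conjMap g K ∈ Ω := by
    rintro g hg _ ⟨C, hC, rfl⟩
    refine ⟨C.map (H.normalizerMonoidHom ⟨g, hg⟩).toMonoidHom, comp_map_equiv hC _, ?_⟩
    rw [conjMap, Subgroup.map_map, Subgroup.map_map]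
    rfl
  set 𝒦 : Set (Subgroup X) := {K | K ∈ Ω ∧ ¬ K ≤ centralizer ({f} : Set X)} with h𝒦
  have hgf : ∀ g : X, (g = f ∨ g ∈ G ⊓ centralizer ({f} : Set X)) → g * f = f * g := by
    rintro g (rfl | hg)
    · rfl
    · exact mem_centralizer_singleton_iff.1 hg.2
  have hinv𝒦 : ∀ g : X, (g = f ∨ g ∈ G ⊓ centralizer ({f} : Set X)) → ∀ K ∈ 𝒦, conjMap g K ∈ 𝒦 :=
    fun g hg K hK => ⟨hΩn g (hinv g hg) K hK.1, fun h => hK.2 ((conjMap_le_centralizer_iff (hgf g hg)).1 h)⟩
  have hL := sSup_le_layer hr hfr hcop (𝒦 := 𝒦) (fun K hK => hqΩ K hK.1)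
    (fun K hK => (hΩH K hK.1).trans hHG) (fun K hK K' hK' => hcΩ K hK.1 K' hK'.1) hinv𝒦
    (moved_commutator (fun K hK => hqΩ K hK.1) (fun K hK K' hK' => hcΩ K hK.1 K' hK'.1)
      (fun K hK => hinv𝒦 f (Or.inl rfl) K hK) fun K hK => hK.2)
  haveI := (comp_layer_facts G).1
  set L := (layer ↥G).map G.subtype with hLdef
  have key : ∀ K ∈ Ω, K ≤ L := by
    intro K hK
    obtain ⟨h, hh, hmov⟩ : ∃ h ∈ H, ¬ conjMap h K ≤ centralizer ({f} : Set X) := by
      by_contra hno
      push Not at hno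
      set N0 := sSup {K' | ∃ h ∈ H, conjMap h K = K'} with hN0
      have hN0C : N0 ≤ centralizer (zpowers f : Set X) := by
        rw [centralizer_zpowers]
        exact sSup_le fun K' ⟨h, hh, e⟩ => e ▸ hno h hh
      have hHN0 : H ≤ normalizer (N0 : Set X) := fun x hx => le_normalizer_of_conjMap (by
        rw [conjMap, hN0, sSup_eq_iSup, Subgroup.map_iSup]
        refine iSup_le fun K' => ?_
        rw [Subgroup.map_iSup]
        refine iSup_le fun hK' => ?_
        obtain ⟨h, hh, rfl⟩ := hK'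
        exact le_iSup₂_of_le (conjMap x (conjMap h K)) ⟨x * h, mul_mem hx hh, (conjMap_mul x h K).symm⟩ le_rfl)
      have h1 : ⁅⁅zpowers f, N0⁆, H⁆ = ⊥ := by
        rw [commutator_comm (zpowers f), commutator_eq_bot_iff_le_centralizer.2 hN0C, commutator_bot_left]
      have h2 : ⁅⁅N0, H⁆, zpowers f⁆ = ⊥ := le_bot_iff.1 ((commutator_mono
        (commutator_le_of_le_normalizer hHN0) le_rfl).trans
        (commutator_eq_bot_iff_le_centralizer.2 hN0C).le)
      have h3 := commutator_commutator_eq_bot_of_rotate (H₁ := H) (H₂ := zpowers f) (H₃ := N0) h1 h2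
      rw [hHF] at h3
      have hKN0 : K ≤ N0 := le_sSup ⟨1, one_mem _, conjMap_one K⟩
      have h4 : ⁅K, K⁆ = ⊥ := le_bot_iff.1 ((commutator_mono (hΩH K hK) hKN0).trans h3.le)
      exact qs_ne_bot (hqΩ K hK) ((qs_perfect (hqΩ K hK)).symm.trans h4)
    have hle : conjMap h K ≤ L :=
      (le_sSup (show conjMap h K ∈ 𝒦 from ⟨hΩn h (le_normalizer hh) K hK, hmov⟩)).trans hL
    have h' := conjMap_mono (g := h⁻¹) hle
    rwa [conjMap_inv_conjMap, conjMap_eq_self (by rw [normalizer_eq_top]; exact mem_top _)] at h'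
  rw [layer, sSup_eq_iSup, Subgroup.map_iSup]
  refine iSup_le fun C => ?_
  rw [Subgroup.map_iSup]
  exact iSup_le fun hC => key _ ⟨C, hC, rfl⟩

/-- an element acting centrally on a perfect group centralises it -/
theorem mem_centralizer_of_perfect {K : Subgroup X} (hK : ⁅K, K⁆ = K) {x : X}
    (h : ∀ k ∈ K, ⁅x, k⁆ ∈ K ⊓ centralizer (K : Set X)) : x ∈ centralizer (K : Set X) := by
  let φ : K →* X := MonoidHom.mk' (fun k => ⁅x, (k : X)⁆) fun a b => by
    show ⁅x, (a : X) * (b : X)⁆ = _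
    rw [comm_mul_right, mem_centralizer_iff.1 (h b b.2).2 a a.2, mul_inv_cancel_right]
  rw [mem_centralizer_iff]
  intro k hk
  have h1 : (⁅K, K⁆ : Subgroup X) ≤ φ.ker.map K.subtype := by
    rw [commutator_le]
    intro a ha b hb
    refine ⟨⁅(⟨a, ha⟩ : K), ⟨b, hb⟩⁆, ?_, rfl⟩
    show φ _ = 1
    rw [map_commutatorElement, commutatorElement_eq_one_iff_mul_comm]
    exact mem_centralizer_iff.1 (h b hb).2 _ (h a ha).1
  obtain ⟨y, hy, rfl⟩ := h1 (by rw [hK]; exact hk)
  exact (commutatorElement_eq_one_iff_mul_comm.1 (show ⁅x, (y : X)⁆ = 1 from hy)).symm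

/-- the centralizer of the fixed points in a group is solvable -/
theorem isSolvable_centralizer_fixed {r : ℕ} (hr : r.Prime) {f : X} (hfr : f ^ r = 1) {E : Subgroup X}
    (hfE : f ∈ normalizer (E : Set X)) (hcop : ¬ r ∣ Nat.card E) :
    Group.IsSolvable ↥(E ⊓ centralizer ((E ⊓ centralizer ({f} : Set X) : Subgroup X) : Set X)) := by
  set D := E ⊓ centralizer ({f} : Set X) with hD
  set T := E ⊓ centralizer (D : Set X) with hT
  have hfT : f ∈ normalizer (T : Set X) := by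
    refine le_normalizer_inf (H := zpowers f) (zpowers_le.2 hfE) (zpowers_le.2 ?_) (mem_zpowers f)
    refine Cfsg.Lib.Components.normalizer_le_normalizer_centralizer' D ?_
    refine le_normalizer_inf (H := zpowers f) (zpowers_le.2 hfE) (zpowers_le.2 ?_) (mem_zpowers f)
    exact le_normalizer (mem_centralizer_singleton_iff.2 rfl)
  let ρ : zpowers f →* MulAut T := T.normalizerMonoidHom.comp (inclusion (zpowers_le.2 hfT))
  let ψ : zpowers f →* MulAut (T ⧸ center T) := Cfsg.Lib.SuzukiSolv.quotAut ρ (center T)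
    (fun k _ hx => Cfsg.Lib.SuzukiSolv.center_invariant ρ k hx)
  set f' : zpowers f := ⟨f, mem_zpowers f⟩ with hf'
  have hfix : MonoidHom.FixedPointFree (ψ f').toMonoidHom := by
    intro q hq
    obtain ⟨t, rfl⟩ := QuotientGroup.mk_surjective q
    refine (QuotientGroup.eq_one_iff t).2 ?_
    set Z := (center T).map T.subtype with hZ
    have hZn : zpowers f ≤ normalizer (Z : Set X) :=
      (zpowers_le.2 hfT).trans (normalizer_le_normalizer_char (center T))
    have hstab : ∀ a ∈ zpowers f, (t : X)⁻¹ * a * t * a⁻¹ ∈ Z := by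
      intro a ha
      have h1 : ψ ⟨a, ha⟩ (t : T ⧸ center T) = t := by
        obtain ⟨i, rfl⟩ := mem_zpowers_iff.1 ha
        rw [show (⟨f ^ i, ha⟩ : zpowers f) = f' ^ i from rfl, map_zpow]
        exact (zpow_mem (show ψ f' ∈ MulAction.stabilizer (MulAut (T ⧸ center T)) (t : T ⧸ center T) from hq) i)
      have h2 : t⁻¹ * ρ ⟨a, ha⟩ t ∈ center T := QuotientGroup.eq.1 h1.symm
      refine ⟨_, h2, ?_⟩
      show (t : X)⁻¹ * (a * t * a⁻¹) = _
      group
    obtain ⟨z, hz, hc⟩ := exists_fixed_in_coset hZn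
      (coprime_zpowers hr hfr fun h => hcop (h.trans (card_dvd_of_le ((map_subtype_le _).trans inf_le_left))))
      (Or.inl inferInstance) hstab
    obtain ⟨z', hz', rfl⟩ := hz
    rw [centralizer_zpowers] at hc
    have htz : t * z' ∈ center T := by
      have hin : ((t * z' : T) : X) ∈ D := ⟨(t * z').2.1, hc⟩
      exact mem_center_iff.2 fun s => Subtype.ext (mem_centralizer_iff.1 s.2.2 _ hin).symm
    exact (mul_mem_cancel_right hz').1 htz
  have hiter : ∀ n : ℕ, ((ψ f').toMonoidHom : T ⧸ center T → T ⧸ center T)^[n] = ⇑((ψ f') ^ n) := by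
    intro n
    induction n with
    | zero => rfl
    | succ n ih =>
      rw [Function.iterate_succ', ih, pow_succ']
      rfl
  haveI := Cfsg.Lib.Thompson.isNilpotent_of_fpf (ψ f').toMonoidHom hfix hr (by
    rw [hiter, ← map_pow, show f' ^ r = 1 from Subtype.ext hfr, map_one]
    rfl)
  haveI : Group.IsSolvable (center T) := Group.isSolvable_of_comm fun a b => Subtype.ext (mem_center_iff.1 b.2 a)
  exact Group.isSolvable_of_ker_le_range (center T).subtype (QuotientGroup.mk' (center T))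
    (by rw [range_subtype, QuotientGroup.ker_mk'])

theorem mem_normalizer_of_pow {r i : ℕ} (hr : r.Prime) {f : X} (hfr : f ^ r = 1) (hi : ¬ r ∣ i)
    {A : Subgroup X} (h : f ^ i ∈ normalizer (A : Set X)) : f ∈ normalizer (A : Set X) := by
  obtain ⟨m, hm⟩ := exists_pow_eq_self_of_coprime
    ((hr.coprime_iff_not_dvd.2 hi).symm.coprime_dvd_right (orderOf_dvd_of_pow_eq_one hfr))
  rw [← hm]
  exact pow_mem h m

/-- A quasisimple subgroup commuting with its other conjugates under `f` and `C_G(f)`. -/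
theorem single_trichotomy {G : Subgroup X} [G.Normal] {f : X} {r : ℕ} (hr : r.Prime)
    (hfr : f ^ r = 1) (hcop : ¬ r ∣ Nat.card G) {K : Subgroup X} (hKG : K ≤ G)
    (hKq : Cfsg.IsQuasisimple K)
    (hcommK : ∀ g ∈ zpowers f ⊔ (G ⊓ centralizer ({f} : Set X)), conjMap g K ≠ K → ⁅K, conjMap g K⁆ = ⊥) :
    (K ≤ G ⊓ centralizer ({f} : Set X) ∧ IsComponent (K.subgroupOf (G ⊓ centralizer ({f} : Set X)))) ∨
      IsComponent (K.subgroupOf G) ∨
      ∃ L : Subgroup X, L ≤ G ∧ IsComponent (L.subgroupOf G) ∧ f ∈ normalizer (L : Set X) ∧ K ≤ L := by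
  set CG := G ⊓ centralizer ({f} : Set X) with hCG
  set B := zpowers f ⊔ CG with hB
  have hBf : ∀ g ∈ B, g * f = f * g := fun g hg => mem_centralizer_singleton_iff.1
    ((sup_le (zpowers_le.2 (mem_centralizer_singleton_iff.2 rfl)) inf_le_right : B ≤ centralizer ({f} : Set X)) hg)
  set Ω : Set (Subgroup X) := {K' | ∃ g ∈ B, conjMap g K = K'} with hΩ
  have hKΩ : K ∈ Ω := ⟨1, one_mem _, conjMap_one K⟩
  have hΩn : ∀ g ∈ B, ∀ K' ∈ Ω, conjMap g K' ∈ Ω := by
    rintro g hg _ ⟨g', hg', rfl⟩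
    exact ⟨g * g', mul_mem hg hg', (conjMap_mul g g' K).symm⟩
  have hqΩ : ∀ K' ∈ Ω, Cfsg.IsQuasisimple K' := by
    rintro _ ⟨g, -, rfl⟩
    exact qs_conjMap hKq g
  have hΩG : ∀ K' ∈ Ω, K' ≤ G := by
    rintro _ ⟨g, -, rfl⟩
    have := conjMap_mono (g := g) hKG
    rwa [conjMap_eq_self (H := G) (by rw [normalizer_eq_top]; exact mem_top _)] at this
  have hcΩ : ∀ K1 ∈ Ω, ∀ K2 ∈ Ω, K1 ≠ K2 → ⁅K1, K2⁆ = ⊥ := by
    rintro _ ⟨a, ha, rfl⟩ _ ⟨b, hb, rfl⟩ hne
    have e : conjMap b K = conjMap a (conjMap (a⁻¹ * b) K) := by rw [conjMap_mul, mul_inv_cancel_left]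
    rw [e, conjMap, conjMap, ← map_commutator,
      hcommK _ (mul_mem (inv_mem ha) hb) (fun h => hne (by rw [e, h])), Subgroup.map_bot]
  have hnW : ∀ g ∈ B, g ∈ normalizer ((sSup Ω : Subgroup X) : Set X) := fun g hg =>
    le_normalizer_of_conjMap (by
      rw [conjMap, sSup_eq_iSup, Subgroup.map_iSup]
      refine iSup_le fun K' => ?_
      rw [Subgroup.map_iSup]
      exact iSup_le fun hK' => le_iSup₂_of_le (conjMap g K') (hΩn g hg K' hK') le_rfl)
  have hWK : sSup Ω ≤ normalizer (K : Set X) := sSup_le fun K' hK' => by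
    by_cases h : K' = K
    · exact h ▸ le_normalizer
    · exact (commutator_eq_bot_iff_le_centralizer.1 (hcΩ K' hK' K hKΩ h)).trans (centralizer_le_normalizer _)
  by_cases hKf : K ≤ centralizer ({f} : Set X)
  · -- fixed
    left
    refine ⟨le_inf hKG hKf, ?_, qs_congr' (subgroupOfEquivOfLe (le_inf hKG hKf)).symm hKq⟩
    have hWCG : sSup Ω ≤ CG := sSup_le fun K' hK' => le_inf (hΩG K' hK') (by
      obtain ⟨g, hg, rfl⟩ := hK'
      exact (conjMap_le_centralizer_iff (hBf g hg)).2 hKf)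
    haveI : ((sSup Ω).subgroupOf CG).Normal :=
      normal_subgroupOf_of_le_normalizer fun g hg => hnW g (mem_sup_right hg)
    refine isSubnormal_of_normal_in (Subgroup.Normal.isSubnormal (by assumption) : ((sSup Ω).subgroupOf CG).IsSubnormal)
      (fun x hx => (le_sSup hKΩ : K ≤ sSup Ω) hx) ?_
    rw [← subgroupOf_normalizer_eq (le_inf hKG hKf)]
    exact fun x hx => hWK hx
  right
  have hmov : ∀ K' ∈ Ω, ¬ K' ≤ centralizer ({f} : Set X) := by
    rintro _ ⟨g, hg, rfl⟩ h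
    exact hKf ((conjMap_le_centralizer_iff (hBf g hg)).1 h)
  have hML := sSup_le_layer hr hfr hcop (𝒦 := Ω) hqΩ hΩG hcΩ
    (fun g hg => hΩn g (by
      rcases hg with rfl | hg
      · exact mem_sup_left (mem_zpowers _)
      · exact mem_sup_right hg))
    (moved_commutator hqΩ hcΩ (fun K' hK' => hΩn f (mem_sup_left (mem_zpowers f)) K' hK') hmov)
  haveI hLn := (comp_layer_facts G).1
  set L := (layer ↥G).map G.subtype with hLdef
  have hLG : L ≤ G := map_subtype_le _
  have hΩL : ∀ K' ∈ Ω, K' ≤ L := fun K' hK' => (le_sSup hK').trans hML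
  -- components
  set 𝓛 : Set (Subgroup X) := {C | C ≤ G ∧ IsComponent C} with h𝓛
  have hGsn : G.IsSubnormal := Subgroup.Normal.isSubnormal inferInstance
  have h𝓛L : ∀ C ∈ 𝓛, C ≤ L := fun C hC => by
    rw [← map_subgroupOf_eq_of_le hC.1, hLdef]
    exact Subgroup.map_mono (comp_le_layer (comp_subgroupOf hC.2 hC.1))
  have hL𝓛 : L ≤ sSup 𝓛 := by
    rw [hLdef, layer, sSup_eq_iSup, Subgroup.map_iSup]
    refine iSup_le fun C => ?_
    rw [Subgroup.map_iSup]
    exact iSup_le fun hC => le_sSup ⟨map_subtype_le C, (comp_map_subtype_iff hGsn).2 hC⟩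
  have hLC : ∀ C ∈ 𝓛, L ≤ normalizer (C : Set X) := fun C hC => hL𝓛.trans (sSup_le fun C' hC' => by
    by_cases h : C' = C
    · exact h ▸ le_normalizer
    · exact (commutator_eq_bot_iff_le_centralizer.1 (comp_commute hC'.2 hC.2 h)).trans (centralizer_le_normalizer _))
  have hcent : ∀ C ∈ 𝓛, ∀ C' ∈ 𝓛, C' ≠ C → C' ≤ centralizer (C : Set X) := fun C hC C' hC' h =>
    commutator_eq_bot_iff_le_centralizer.1 (comp_commute hC'.2 hC.2 h)
  have hLcN : ∀ C ∈ 𝓛, L ≤ normalizer ((L ⊓ centralizer (C : Set X) : Subgroup X) : Set X) := fun C hC =>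
    le_normalizer_inf le_normalizer ((hLC C hC).trans (normalizer_le_normalizer_centralizer' C))
  have hsplit : ∀ C ∈ 𝓛, ∀ x ∈ L, ∃ a ∈ C, ∃ b ∈ L ⊓ centralizer (C : Set X), a * b = x := fun C hC x hx => by
    have hle : sSup 𝓛 ≤ C ⊔ (L ⊓ centralizer (C : Set X)) := sSup_le fun C' hC' => by
      by_cases h : C' = C
      · exact h ▸ le_sup_left
      · exact le_sup_of_le_right (le_inf (h𝓛L C' hC') (hcent C hC C' hC' h))
    exact (mem_sup_of_le_normalizer' ((h𝓛L C hC).trans (hLcN C hC))).1 (by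
      rw [sup_comm]; exact hle (hL𝓛 hx))
  have hcommL : ∀ C ∈ 𝓛, ∀ x ∈ L, ∀ c ∈ L ⊓ centralizer (C : Set X), ⁅x, c⁆ ∈ L ⊓ centralizer (C : Set X) :=
    fun C hC x hx c hc => by
      rw [commutatorElement_def]
      exact mul_mem ((mem_normalizer_iff.1 (hLcN C hC hx) c).1 hc) (inv_mem hc)
  have hcommR : ∀ C ∈ 𝓛, ∀ x ∈ L, ∀ c ∈ L ⊓ centralizer (C : Set X), ⁅c, x⁆ ∈ L ⊓ centralizer (C : Set X) :=
    fun C hC x hx c hc => by
      rw [← commutatorElement_inv]
      exact inv_mem (hcommL C hC x hx c hc)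
  have hcommC : ∀ C ∈ 𝓛, ∀ a ∈ C, ∀ x ∈ L, ⁅x, a⁆ ∈ C := fun C hC a ha x hx => by
    rw [commutatorElement_def]
    exact mul_mem ((mem_normalizer_iff.1 (hLC C hC hx) a).1 ha) (inv_mem ha)
  -- a member commuting with a member covering `C` modulo `C(C)` centralises `C`
  have hkill : ∀ C ∈ 𝓛, ∀ K1 : Subgroup X, K1 ≤ L → C ≤ K1 ⊔ (L ⊓ centralizer (C : Set X)) →
      ∀ y ∈ L, y ∈ centralizer (K1 : Set X) → y ∈ centralizer (C : Set X) := by
    intro C hC K1 hK1 hcov y hyL hy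
    refine mem_centralizer_of_perfect (comp_perfect hC.2) fun a ha => ⟨hcommC C hC a ha y hyL, ?_⟩
    obtain ⟨k, hk, c, hc, rfl⟩ := (mem_sup_of_le_normalizer' (hK1.trans (hLcN C hC))).1 (by
      rw [sup_comm]; exact hcov ha)
    have h1 : ⁅y, k⁆ = 1 :=
      commutatorElement_eq_one_iff_mul_comm.2 (mem_centralizer_iff.1 hy k hk).symm
    rw [comm_mul_right, h1, one_mul]
    exact ((mem_normalizer_iff.1 (hLcN C hC (hK1 hk)) _).1 (hcommL C hC y hyL c hc)).2
  have hΩd : ∀ d ∈ L ⊓ centralizer ({f} : Set X), ∀ K' ∈ Ω, conjMap d K' ∈ Ω := fun d hd =>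
    hΩn d (mem_sup_right ⟨hLG hd.1, hd.2⟩)
  -- an element of `P` fixed by `f` centralises `K` if `P` centralises a component involved in `K`
  have hfixcent : ∀ C2 ∈ 𝓛, ¬ K ≤ centralizer (C2 : Set X) → ∀ P : Subgroup X, P ≤ L →
      L ≤ normalizer (P : Set X) → P ≤ centralizer (C2 : Set X) → ∀ d ∈ P, d ∈ centralizer ({f} : Set X) →
      d ∈ centralizer (K : Set X) := by
    intro C2 hC2 hsupp P hPL hLP hPC d hd hdf
    have hdK : conjMap d K = K := by
      by_contra hne
      have h0 := hcΩ _ (hΩd d ⟨hPL hd, hdf⟩ K hKΩ) _ hKΩ hne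
      refine hsupp (hKq.1 |> fun _ => ?_)
      have hker : ⁅K, K⁆ ≤ L ⊓ centralizer (C2 : Set X) := by
        rw [commutator_le]
        intro a ha b hb
        have haL := hΩL K hKΩ ha
        have hbL := hΩL K hKΩ hb
        obtain ⟨a1, ha1, a2, ha2, rfl⟩ := hsplit C2 hC2 a haL
        have hd1 : d * a1 * d⁻¹ = a1 := by
          rw [← mem_centralizer_iff.1 (hPC hd) a1 ha1, mul_inv_cancel_right]
        have hconj : d * (a1 * a2) * d⁻¹ = (a1 * a2) * (a2⁻¹ * (d * a2 * d⁻¹)) := by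
          rw [show d * (a1 * a2) * d⁻¹ = (d * a1 * d⁻¹) * (d * a2 * d⁻¹) by group, hd1]
          group
        have hq : a2⁻¹ * (d * a2 * d⁻¹) ∈ L ⊓ centralizer (C2 : Set X) :=
          mul_mem (inv_mem ha2) ((mem_normalizer_iff.1 (hLcN C2 hC2 (hPL hd)) a2).1 ha2)
        have h1 : ⁅d * (a1 * a2) * d⁻¹, b⁆ = 1 := commutatorElement_eq_one_iff_mul_comm.2
          (mem_centralizer_iff.1 (commutator_eq_bot_iff_le_centralizer.1 h0 (mem_map_of_mem _ ha)) b hb).symm
        rw [hconj, comm_mul_left, mul_eq_one_iff_eq_inv] at h1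
        have h2 : (a1 * a2) * ⁅a2⁻¹ * (d * a2 * d⁻¹), b⁆ * (a1 * a2)⁻¹ ∈ L ⊓ centralizer (C2 : Set X) :=
          (mem_normalizer_iff.1 (hLcN C2 hC2 haL) _).1 (hcommR C2 hC2 b hbL _ hq)
        rw [h1] at h2
        exact inv_mem_iff.1 h2
      rw [qs_perfect hKq] at hker
      exact hker.trans inf_le_right
    rw [conjMap_eq_self_iff] at hdK
    refine mem_centralizer_of_perfect (qs_perfect hKq) fun k hk => ?_
    have h1 : ⁅d, k⁆ ∈ K := by
      rw [commutatorElement_def]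
      exact mul_mem ((mem_normalizer_iff.1 hdK k).1 hk) (inv_mem hk)
    have h2 : ⁅d, k⁆ ∈ P := by
      rw [commutatorElement_def, mul_assoc, mul_assoc]
      refine mul_mem hd ?_
      rw [← mul_assoc]
      exact (mem_normalizer_iff.1 (hLP (hΩL K hKΩ hk)) _).1 (inv_mem hd)
    refine ⟨h1, ?_⟩
    haveI : ((K ⊓ P).subgroupOf K).Normal := normal_subgroupOf_of_le_normalizer
      (le_normalizer_inf le_normalizer ((hΩL K hKΩ).trans hLP))
    rcases qs_subnormal_eq_top_or_le_center hKq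
      (Subgroup.Normal.isSubnormal (by assumption) : ((K ⊓ P).subgroupOf K).IsSubnormal) with h | h
    · exact absurd (((subgroupOf_eq_top.1 h).trans inf_le_right).trans hPC) hsupp
    · refine mem_centralizer_iff.2 fun k' hk' => ?_
      exact congrArg Subtype.val (mem_center_iff.1
        (h (show (⟨⁅d, k⁆, h1⟩ : K) ∈ (K ⊓ P).subgroupOf K from ⟨h1, h2⟩)) ⟨k', hk'⟩)
  -- components involved
  obtain ⟨C1, hC1, hsupp1⟩ : ∃ C1 ∈ 𝓛, ¬ K ≤ centralizer (C1 : Set X) := by
    by_contra hno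
    push Not at hno
    have hKL : K ≤ centralizer ((sSup 𝓛 : Subgroup X) : Set X) := by
      rw [le_centralizer_iff]
      exact sSup_le fun C hC => le_centralizer_iff.1 (hno C hC)
    have h : ⁅K, K⁆ = ⊥ := commutator_eq_bot_iff_le_centralizer.2
      (hKL.trans (centralizer_le (SetLike.coe_subset_coe.2 ((hΩL K hKΩ).trans hL𝓛))))
    exact qs_ne_bot hKq ((qs_perfect hKq).symm.trans h)
  have hsingle : (∀ C ∈ 𝓛, C ≠ C1 → K ≤ centralizer (C : Set X)) → K ≤ C1 := by
    intro hoth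
    rw [← qs_perfect hKq, commutator_le]
    have key : ∀ k ∈ K, ∃ a ∈ C1, ∃ z ∈ centralizer (L : Set X), z ∈ L ∧ a * z = k := by
      intro k hk
      obtain ⟨a, ha, b, hb, hab⟩ := hsplit C1 hC1 k (hΩL K hKΩ hk)
      refine ⟨a, ha, b, ?_, hb.1, hab⟩
      refine centralizer_le (SetLike.coe_subset_coe.2 hL𝓛) ?_
      have hb1 : sSup 𝓛 ≤ centralizer ({b} : Set X) := sSup_le fun C hC v hv => by
        rw [mem_centralizer_singleton_iff]
        by_cases h : C = C1
        · subst h; exact mem_centralizer_iff.1 hb.2 v hv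
        · have h1 := mem_centralizer_iff.1 (hoth C hC h hk) v hv
          have h2 := mem_centralizer_iff.1 (hcent C hC C1 hC1 (Ne.symm h) ha) v hv
          rw [show b = a⁻¹ * k by rw [← hab]; group, ← mul_assoc,
            (show Commute v a from h2).inv_right.eq, mul_assoc, h1, mul_assoc]
      rw [mem_centralizer_iff]
      exact fun v hv => mem_centralizer_singleton_iff.1 (hb1 hv)
    intro x hx y hy
    obtain ⟨a, ha, z, hz, hzL, rfl⟩ := key x hx
    obtain ⟨a', ha', z', hz', hzL', rfl⟩ := key y hy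
    have e1 : ⁅z, a'⁆ = 1 :=
      commutatorElement_eq_one_iff_mul_comm.2 (mem_centralizer_iff.1 hz _ (h𝓛L C1 hC1 ha')).symm
    have e2 : ⁅z, z'⁆ = 1 := commutatorElement_eq_one_iff_mul_comm.2 (mem_centralizer_iff.1 hz _ hzL').symm
    have e3 : ⁅a, z'⁆ = 1 := commutatorElement_eq_one_iff_mul_comm.2 (mem_centralizer_iff.1 hz' _ (h𝓛L C1 hC1 ha))
    rw [comm_mul_left, comm_mul_right, comm_mul_right, e1, e2, e3]
    simp only [mul_one, one_mul, mul_inv_cancel]
    rw [commutatorElement_def]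
    exact mul_mem (mul_mem (mul_mem ha ha') (inv_mem ha)) (inv_mem ha')
  have h𝓛conj : ∀ C ∈ 𝓛, ∀ g : X, conjMap g C ∈ 𝓛 := fun C hC g => by
    refine ⟨?_, comp_conj hC.2 g⟩
    have := conjMap_mono (g := g) hC.1
    rwa [conjMap_eq_self (H := G) (by rw [normalizer_eq_top]; exact mem_top _)] at this
  by_cases hfC : f ∈ normalizer (C1 : Set X)
  · -- `C1` fixed
    right
    refine ⟨C1, hC1.1, comp_subgroupOf hC1.2 hC1.1, hfC, hsingle ?_⟩
    intro C2 hC2 hne
    by_contra hsupp2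
    have hc := hfixcent C2 hC2 hsupp2 C1 (h𝓛L C1 hC1) (hLC C1 hC1) (hcent C2 hC2 C1 hC1 (Ne.symm hne))
    set D := C1 ⊓ centralizer ({f} : Set X) with hD
    have hKD : K ≤ centralizer (D : Set X) := fun k hk => mem_centralizer_iff.2 fun d hd =>
      (mem_centralizer_iff.1 (hc d hd.1 hd.2) k hk).symm
    set T := C1 ⊓ centralizer (D : Set X) with hT
    have hTsol : Group.IsSolvable T := isSolvable_centralizer_fixed hr hfr hfC
      fun h => hcop (h.trans (card_dvd_of_le hC1.1))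
    have hTL : T ≤ L := inf_le_left.trans (h𝓛L C1 hC1)
    haveI : (((L ⊓ centralizer (C1 : Set X)).subgroupOf L)).Normal :=
      normal_subgroupOf_of_le_normalizer (hLcN C1 hC1)
    set π := QuotientGroup.mk' ((L ⊓ centralizer (C1 : Set X)).subgroupOf L) with hπ
    let φ : K →* L ⧸ (L ⊓ centralizer (C1 : Set X)).subgroupOf L := π.comp (inclusion (hΩL K hKΩ))
    have hφT : ∀ k : K, φ k ∈ (T.subgroupOf L).map π := by
      intro k
      obtain ⟨a, ha, b, hb, hab⟩ := hsplit C1 hC1 k (hΩL K hKΩ k.2)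
      have haT : a ∈ T := ⟨ha, mem_centralizer_iff.2 fun d hd => by
        have h1 := mem_centralizer_iff.1 (hKD k.2) d hd
        have h2 : d * b = b * d := mem_centralizer_iff.1 hb.2 d hd.1
        rw [show a = (k : X) * b⁻¹ by rw [← hab]; group, ← mul_assoc, h1, mul_assoc,
          (show Commute d b from h2).inv_right.eq, mul_assoc]⟩
      refine ⟨⟨a, hTL haT⟩, haT, ?_⟩
      show π ⟨a, hTL haT⟩ = π (inclusion (hΩL K hKΩ) k)
      rw [hπ, QuotientGroup.mk'_apply, QuotientGroup.mk'_apply, QuotientGroup.eq]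
      show a⁻¹ * (k : X) ∈ L ⊓ centralizer (C1 : Set X)
      rwa [← hab, inv_mul_cancel_left]
    have hsolT : Group.IsSolvable ((T.subgroupOf L).map π) := isSolvable_map
      (Group.isSolvable_of_isSolvable_injective (f := (subgroupOfEquivOfLe hTL).toMonoidHom)
        (subgroupOfEquivOfLe hTL).injective) π
    have h1 := map_eq_one_of_perfect_solvable (qs_perfect hKq) hsolT (φ.codRestrict _ hφT)
    refine hsupp1 fun k hk => ?_
    have h2 : φ ⟨k, hk⟩ = 1 := congrArg Subtype.val (h1 ⟨k, hk⟩)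
    exact ((QuotientGroup.eq_one_iff (inclusion (hΩL K hKΩ) ⟨k, hk⟩)).1 h2).2
  -- `C1` moved
  set PO := sSup {C | ∃ i : ℕ, conjMap (f ^ i) C1 = C} with hPO
  have horb : ∀ i : ℕ, conjMap (f ^ i) C1 ∈ 𝓛 := fun i => h𝓛conj C1 hC1 _
  have hPOL : PO ≤ L := sSup_le fun C ⟨i, e⟩ => e ▸ h𝓛L _ (horb i)
  have hfPO : f ∈ normalizer (PO : Set X) := le_normalizer_of_conjMap (by
    rw [conjMap, hPO, sSup_eq_iSup, Subgroup.map_iSup]
    refine iSup_le fun C => ?_
    rw [Subgroup.map_iSup]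
    refine iSup_le fun hC => ?_
    obtain ⟨i, rfl⟩ := hC
    exact le_iSup₂_of_le (conjMap f (conjMap (f ^ i) C1)) ⟨i + 1, by rw [pow_succ', conjMap_mul]⟩ le_rfl)
  have hLPO : L ≤ normalizer (PO : Set X) := fun x hx => le_normalizer_of_conjMap (by
    rw [conjMap, hPO, sSup_eq_iSup, Subgroup.map_iSup]
    refine iSup_le fun C => ?_
    rw [Subgroup.map_iSup]
    refine iSup_le fun hC => ?_
    obtain ⟨i, rfl⟩ := hC
    exact le_iSup₂_of_le (conjMap (f ^ i) C1) ⟨i, rfl⟩ (conjMap_eq_self (hLC _ (horb i) hx)).le)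
  -- diagonal elements
  have hmovC : ∀ C ∈ 𝓛, f ∉ normalizer (C : Set X) → ∀ a ∈ C, ∃ e, e ∈ L ⊓ centralizer (C : Set X) ∧
      a * e ∈ L ⊓ centralizer ({f} : Set X) ∧ (C = C1 → e ∈ PO) := by
    intro C hC hfC a ha
    have key : ∀ n : ℕ, n < r → ∃ e ∈ L ⊓ centralizer (C : Set X), (C = C1 → e ∈ PO) ∧
        f * (a * e) * f⁻¹ = e * (f ^ (n + 1) * a * (f ^ (n + 1))⁻¹) := by
      intro n
      induction n with
      | zero => exact fun _ => ⟨1, one_mem _, fun _ => one_mem _, by simp [mul_assoc]⟩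
      | succ n ih =>
        intro hn
        obtain ⟨e, he, hePO, hee⟩ := ih (by omega)
        have hmem : f ^ (n + 1) * a * (f ^ (n + 1))⁻¹ ∈ conjMap (f ^ (n + 1)) C := mem_map_of_mem _ ha
        have hne : conjMap (f ^ (n + 1)) C ≠ C := fun h => hfC (mem_normalizer_of_pow hr hfr
          (fun hd => absurd (Nat.le_of_dvd (by omega) hd) (by omega)) (conjMap_eq_self_iff.1 h))
        refine ⟨e * (f ^ (n + 1) * a * (f ^ (n + 1))⁻¹), mul_mem he
          ⟨h𝓛L _ (h𝓛conj C hC _) hmem, hcent C hC _ (h𝓛conj C hC _) hne hmem⟩,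
          fun hC1' => mul_mem (hePO hC1') (le_sSup (show conjMap (f ^ (n + 1)) C ∈ {C' | ∃ i : ℕ, conjMap (f ^ i) C1 = C'}
            from ⟨n + 1, by rw [hC1']⟩) hmem), ?_⟩
        rw [show f * (a * (e * (f ^ (n + 1) * a * (f ^ (n + 1))⁻¹))) * f⁻¹
          = f * (a * e) * f⁻¹ * (f * (f ^ (n + 1) * a * (f ^ (n + 1))⁻¹) * f⁻¹) by group, hee,
          pow_succ' f (n + 1)]
        group
    obtain ⟨e, he, hePO, hee⟩ := key (r - 1) (by have := hr.pos; omega)
    rw [Nat.sub_add_cancel hr.pos, hfr, inv_one, one_mul, mul_one,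
      show e * a = a * e from (mem_centralizer_iff.1 he.2 a ha).symm] at hee
    exact ⟨e, he, ⟨mul_mem (h𝓛L C hC ha) he.1, mem_centralizer_singleton_iff.2 (mul_inv_eq_iff_eq_mul.1 hee).symm⟩, hePO⟩
  -- members involving a moved component cover it
  have hcov : ∀ C ∈ 𝓛, f ∉ normalizer (C : Set X) → ∀ K' ∈ Ω, ¬ K' ≤ centralizer (C : Set X) →
      C ≤ K' ⊔ (L ⊓ centralizer (C : Set X)) := by
    intro C hC hfC K' hK' hsupp
    set Cc := L ⊓ centralizer (C : Set X) with hCc
    have main : ∀ W : Subgroup X, W ≤ L → C ≤ normalizer ((W ⊔ Cc : Subgroup X) : Set X) →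
        ¬ W ≤ centralizer (C : Set X) → C ≤ W ⊔ Cc := by
      intro W hW hn hWs
      haveI : ((C ⊓ (W ⊔ Cc)).subgroupOf C).Normal :=
        normal_subgroupOf_of_le_normalizer (le_normalizer_inf le_normalizer hn)
      rcases qs_subnormal_eq_top_or_le_center hC.2.2
        (Subgroup.Normal.isSubnormal (by assumption) : ((C ⊓ (W ⊔ Cc)).subgroupOf C).IsSubnormal) with h | h
      · exact (subgroupOf_eq_top.1 h).trans inf_le_right
      · refine absurd (fun w hw => ?_) hWs
        obtain ⟨a, ha, b, hb, rfl⟩ := hsplit C hC w (hW hw)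
        have haW : a ∈ W ⊔ Cc := by
          rw [show a = (a * b) * b⁻¹ by group]
          exact mul_mem (mem_sup_left hw) (mem_sup_right (inv_mem hb))
        refine mul_mem (mem_centralizer_iff.2 fun c hc => ?_) hb.2
        exact congrArg Subtype.val (mem_center_iff.1
          (h (show (⟨a, ha⟩ : C) ∈ (C ⊓ (W ⊔ Cc)).subgroupOf C from ⟨ha, haW⟩)) ⟨c, hc⟩)
    set W := sSup {K'' | ∃ d ∈ L ⊓ centralizer ({f} : Set X), conjMap d K' = K''} with hW
    have hWΩ : ∀ d ∈ L ⊓ centralizer ({f} : Set X), conjMap d K' ∈ Ω := fun d hd => hΩd d hd K' hK'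
    have hWL : W ≤ L := sSup_le fun K'' ⟨d, hd, e⟩ => e ▸ hΩL _ (hWΩ d hd)
    have hdW : ∀ d ∈ L ⊓ centralizer ({f} : Set X), d ∈ normalizer (W : Set X) := fun d hd =>
      le_normalizer_of_conjMap (by
        rw [conjMap, hW, sSup_eq_iSup, Subgroup.map_iSup]
        refine iSup_le fun K'' => ?_
        rw [Subgroup.map_iSup]
        refine iSup_le fun hK'' => ?_
        obtain ⟨d', hd', rfl⟩ := hK''
        exact le_iSup₂_of_le (conjMap d (conjMap d' K')) ⟨d * d', mul_mem hd hd', (conjMap_mul d d' K').symm⟩ le_rfl)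
    have hWK' : W ≤ normalizer (K' : Set X) := sSup_le fun K'' ⟨d, hd, e⟩ => by
      subst e
      by_cases h : conjMap d K' = K'
      · exact h.le.trans le_normalizer
      · exact (commutator_eq_bot_iff_le_centralizer.1 (hcΩ _ (hWΩ d hd) K' hK' h)).trans (centralizer_le_normalizer _)
    have hCW : C ≤ W ⊔ Cc := by
      refine main W hWL (fun a ha => ?_) fun h => hsupp ((le_sSup ⟨1, one_mem _, conjMap_one K'⟩ : K' ≤ W).trans h)
      obtain ⟨e, he, hd, -⟩ := hmovC C hC hfC a ha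
      have hdn : a * e ∈ normalizer ((W ⊔ Cc : Subgroup X) : Set X) :=
        le_normalizer_sup (H := zpowers (a * e)) (zpowers_le.2 (hdW _ hd))
          (zpowers_le.2 (hLcN C hC hd.1)) (mem_zpowers _)
      rw [show a = (a * e) * e⁻¹ by group]
      exact mul_mem hdn (le_normalizer (mem_sup_right (inv_mem he)))
    refine main K' (hΩL K' hK') (hCW.trans (sup_le ?_ ?_)) hsupp
    · exact le_normalizer_sup hWK' (hWL.trans (hLcN C hC))
    · exact le_sup_right.trans le_normalizer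
  have huniq : ∀ C ∈ 𝓛, f ∉ normalizer (C : Set X) → ∀ K' ∈ Ω, ∀ K'' ∈ Ω, ¬ K' ≤ centralizer (C : Set X) →
      ¬ K'' ≤ centralizer (C : Set X) → K'' = K' := by
    intro C hC hfC K' hK' K'' hK'' h' h''
    by_contra hne
    exact h'' fun y hy => hkill C hC K' (hΩL K' hK') (hcov C hC hfC K' hK' h') y (hΩL K'' hK'' hy)
      (commutator_eq_bot_iff_le_centralizer.1 (hcΩ K'' hK'' K' hK' hne) hy)
  have hequiv : ∀ g : X, ∀ C A : Subgroup X, A ≤ centralizer (C : Set X) →
      conjMap g A ≤ centralizer (conjMap g C : Set X) := by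
    intro g C A h
    rw [← commutator_eq_bot_iff_le_centralizer] at h ⊢
    rw [conjMap, conjMap, ← map_commutator, h, Subgroup.map_bot]
  -- the components involved lie in the orbit
  have hinorb : ∀ C2 ∈ 𝓛, ¬ K ≤ centralizer (C2 : Set X) → ∃ i : ℕ, conjMap (f ^ i) C1 = C2 := by
    intro C2 hC2 hsupp2
    by_contra hno
    push Not at hno
    have hPC : PO ≤ centralizer (C2 : Set X) :=
      sSup_le fun C ⟨i, e⟩ => e ▸ hcent C2 hC2 _ (horb i) (hno i)
    refine hsupp1 fun k hk => ?_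
    refine mem_centralizer_of_perfect (comp_perfect hC1.2) fun a ha =>
      ⟨hcommC C1 hC1 a ha k (hΩL K hKΩ hk), ?_⟩
    obtain ⟨e, he, hd, hePO⟩ := hmovC C1 hC1 hfC a ha
    have hdP : a * e ∈ PO :=
      mul_mem (le_sSup (show C1 ∈ {C' | ∃ i : ℕ, conjMap (f ^ i) C1 = C'} from ⟨0, by rw [pow_zero, conjMap_one]⟩) ha)
        (hePO rfl)
    have hdK := hfixcent C2 hC2 hsupp2 PO hPOL hLPO hPC _ hdP hd.2
    have h1 : ⁅k, a * e⁆ = 1 := commutatorElement_eq_one_iff_mul_comm.2 (mem_centralizer_iff.1 hdK k hk)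
    rw [comm_mul_right, mul_eq_one_iff_eq_inv] at h1
    rw [h1]
    exact (inv_mem ((mem_normalizer_iff.1 (hLcN C1 hC1 (h𝓛L C1 hC1 ha)) _).1
      (hcommL C1 hC1 k (hΩL K hKΩ hk) e he))).2
  by_cases hone : ∀ C ∈ 𝓛, C ≠ C1 → K ≤ centralizer (C : Set X)
  · left
    have hle := hsingle hone
    have hCle : C1 ≤ K := by
      rw [← comp_perfect hC1.2, commutator_le]
      have hdec : ∀ a ∈ C1, ∃ k ∈ K, ∃ z ∈ C1 ⊓ centralizer (C1 : Set X), k * z = a := by
        intro a ha
        obtain ⟨k, hk, z, hz, hkz⟩ := (mem_sup_of_le_normalizer' ((hΩL K hKΩ).trans (hLcN C1 hC1))).1 (by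
          rw [sup_comm]; exact hcov C1 hC1 hfC K hKΩ hsupp1 ha)
        refine ⟨k, hk, z, ⟨?_, hz.2⟩, hkz⟩
        rw [show z = k⁻¹ * a by rw [← hkz]; group]
        exact mul_mem (Subgroup.inv_mem _ (hle hk)) ha
      intro a ha b hb
      obtain ⟨k, hk, z, hz, rfl⟩ := hdec a ha
      obtain ⟨k', hk', z', hz', rfl⟩ := hdec b hb
      have e1 : ⁅z, k'⁆ = 1 :=
        commutatorElement_eq_one_iff_mul_comm.2 (mem_centralizer_iff.1 hz.2 _ (hle hk')).symm
      have e2 : ⁅z, z'⁆ = 1 := commutatorElement_eq_one_iff_mul_comm.2 (mem_centralizer_iff.1 hz.2 _ hz'.1).symm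
      have e3 : ⁅k, z'⁆ = 1 := commutatorElement_eq_one_iff_mul_comm.2 (mem_centralizer_iff.1 hz'.2 _ (hle hk))
      rw [comm_mul_left, comm_mul_right, comm_mul_right, e1, e2, e3]
      simp only [mul_one, one_mul, mul_inv_cancel]
      rw [commutatorElement_def]
      exact mul_mem (mul_mem (mul_mem hk hk') (inv_mem hk)) (inv_mem hk')
    rw [le_antisymm hle hCle]
    exact comp_subgroupOf hC1.2 hC1.1
  exfalso
  push Not at hone
  obtain ⟨C2, hC2, hne, hsupp2⟩ := hone
  obtain ⟨j, hj⟩ := hinorb C2 hC2 hsupp2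
  have hfK : f ∈ normalizer (K : Set X) := by
    have hjB : f ^ j ∈ B := mem_sup_left (pow_mem (mem_zpowers f) j)
    have hK'supp : ¬ conjMap (f ^ j) K ≤ centralizer (C2 : Set X) := fun h => hsupp1 (by
      have := hequiv (f ^ j)⁻¹ C2 _ h
      rwa [conjMap_inv_conjMap, ← hj, conjMap_inv_conjMap] at this)
    have hC2mov : f ∉ normalizer (C2 : Set X) := fun h => hfC (by
      have h1 : conjMap (f ^ j)⁻¹ C2 = C2 := conjMap_eq_self (Subgroup.inv_mem _ (pow_mem h j))
      rw [← hj, conjMap_inv_conjMap, hj] at h1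
      rw [h1]; exact h)
    have h1 := huniq C2 hC2 hC2mov K hKΩ _ (hΩn _ hjB K hKΩ) hsupp2 hK'supp
    refine mem_normalizer_of_pow hr hfr (fun hd => hne ?_) (conjMap_eq_self_iff.1 h1)
    obtain ⟨t, rfl⟩ := hd
    rw [← hj, pow_mul, hfr, one_pow, conjMap_one]
  have hall : ∀ i : ℕ, ¬ K ≤ centralizer (conjMap (f ^ i) C1 : Set X) := fun i h => hsupp1 (by
    have := hequiv (f ^ i)⁻¹ _ _ h
    rwa [conjMap_inv_conjMap, conjMap_eq_self (Subgroup.inv_mem _ (pow_mem hfK i))] at this)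
  have horbmov : ∀ i : ℕ, f ∉ normalizer (conjMap (f ^ i) C1 : Set X) := fun i h => hfC (by
    have := conjMap_eq_self (Subgroup.inv_mem _ (pow_mem h i))
    rw [conjMap_inv_conjMap] at this
    rw [this]; exact h)
  refine hKf ?_
  have hfcK : f ∈ centralizer (K : Set X) := by
    refine mem_centralizer_of_perfect (qs_perfect hKq) fun k hk => ?_
    obtain ⟨a, ha, b, hb, hab⟩ := hsplit C1 hC1 k (hΩL K hKΩ hk)
    obtain ⟨e, he, hd, -⟩ := hmovC C1 hC1 hfC a ha
    set d := a * e with hd'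
    have hdK : d ∈ normalizer (K : Set X) := by
      rw [← conjMap_eq_self_iff]
      refine huniq C1 hC1 hfC K hKΩ _ (hΩd d hd K hKΩ) hsupp1 fun h => hsupp1 ?_
      have := hequiv d⁻¹ _ _ h
      rwa [conjMap_inv_conjMap, conjMap_eq_self (hLC C1 hC1 (inv_mem hd.1))] at this
    set x := k⁻¹ * d with hx
    have hxC : x ∈ L ⊓ centralizer (C1 : Set X) := by
      rw [hx, hd', ← hab, show (a * b)⁻¹ * (a * e) = b⁻¹ * e by group]
      exact mul_mem (inv_mem hb) he
    have hxK : x ∈ centralizer (K : Set X) := by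
      refine mem_centralizer_of_perfect (qs_perfect hKq) fun y hy => ?_
      have h1 : ⁅x, y⁆ ∈ K := by
        rw [commutatorElement_def]
        exact mul_mem ((mem_normalizer_iff.1 (mul_mem (Subgroup.inv_mem _ (le_normalizer hk)) hdK) y).1 hy) (inv_mem hy)
      have h2 := hcommR C1 hC1 y (hΩL K hKΩ hy) x hxC
      refine ⟨h1, ?_⟩
      haveI : ((K ⊓ (L ⊓ centralizer (C1 : Set X))).subgroupOf K).Normal :=
        normal_subgroupOf_of_le_normalizer (le_normalizer_inf le_normalizer ((hΩL K hKΩ).trans (hLcN C1 hC1)))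
      rcases qs_subnormal_eq_top_or_le_center hKq
        (Subgroup.Normal.isSubnormal (by assumption) :
          ((K ⊓ (L ⊓ centralizer (C1 : Set X))).subgroupOf K).IsSubnormal) with h | h
      · exact absurd (((subgroupOf_eq_top.1 h).trans inf_le_right).trans inf_le_right) hsupp1
      · refine mem_centralizer_iff.2 fun y' hy' => ?_
        exact congrArg Subtype.val (mem_center_iff.1
          (h (show (⟨⁅x, y⁆, h1⟩ : K) ∈ (K ⊓ (L ⊓ centralizer (C1 : Set X))).subgroupOf K from ⟨h1, h2⟩)) ⟨y', hy'⟩)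
    have hxPO : x ∈ centralizer (PO : Set X) := by
      have hle : PO ≤ centralizer ({x} : Set X) := sSup_le fun C ⟨i, hi⟩ v hv => by
        subst hi
        rw [mem_centralizer_singleton_iff]
        exact mem_centralizer_iff.1 (hkill _ (horb i) K (hΩL K hKΩ)
          (hcov _ (horb i) (horbmov i) K hKΩ (hall i)) x hxC.1 hxK) v hv
      rw [mem_centralizer_iff]
      exact fun v hv => mem_centralizer_singleton_iff.1 (hle hv)
    have hKPO : K ≤ PO := by
      rw [← qs_perfect hKq, commutator_le]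
      have hdec : ∀ u ∈ L, ∃ p ∈ PO, ∃ z ∈ centralizer (PO : Set X), p * z = u := by
        intro u hu
        have hle : sSup 𝓛 ≤ PO ⊔ (L ⊓ centralizer (PO : Set X)) := sSup_le fun C hC => by
          by_cases h : ∃ i : ℕ, conjMap (f ^ i) C1 = C
          · exact le_sup_of_le_left (le_sSup h)
          · refine le_sup_of_le_right (le_inf (h𝓛L C hC) ?_)
            rw [le_centralizer_iff]
            exact sSup_le fun C' ⟨i, e⟩ => e ▸ hcent C hC _ (horb i) fun h' => h ⟨i, h'⟩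
        obtain ⟨p, hp, z, hz, rfl⟩ := (mem_sup_of_le_normalizer' (H := PO) (N := L ⊓ centralizer (PO : Set X))
          (le_normalizer_inf (hPOL.trans le_normalizer) (le_normalizer.trans (normalizer_le_normalizer_centralizer' PO)))).1 (by
          rw [sup_comm]; exact hle (hL𝓛 hu))
        exact ⟨p, hp, z, hz.2, rfl⟩
      intro u hu v hv
      obtain ⟨p, hp, z, hz, hpz⟩ := hdec u (hΩL K hKΩ hu)
      obtain ⟨p', hp', z', hz', hpz'⟩ := hdec v (hΩL K hKΩ hv)
      have hzK : ∀ w ∈ K, ∀ q ∈ PO, ∀ z ∈ centralizer (PO : Set X), q * z = w → ∀ C ∈ 𝓛,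
          (¬ ∃ i : ℕ, conjMap (f ^ i) C1 = C) → z ∈ centralizer (C : Set X) := by
        intro w hw q hq z hz hqz C hC hno
        have hwC : w ∈ centralizer (C : Set X) := by
          by_contra hns
          exact hno (hinorb C hC fun h => hns (h hw))
        have hqC : q ∈ centralizer (C : Set X) :=
          (sSup_le fun C' ⟨i, e⟩ => e ▸ hcent C hC _ (horb i) fun h' => hno ⟨i, h'⟩ : PO ≤ centralizer (C : Set X)) hq
        rw [show z = q⁻¹ * w by rw [← hqz]; group]
        exact mul_mem (inv_mem hqC) hwC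
      have hzL : ∀ w ∈ K, ∀ q ∈ PO, ∀ z ∈ centralizer (PO : Set X), q * z = w →
          z ∈ centralizer (L : Set X) := by
        intro w hw q hq z hz hqz
        refine centralizer_le (SetLike.coe_subset_coe.2 hL𝓛) ?_
        have hle : sSup 𝓛 ≤ centralizer ({z} : Set X) := sSup_le fun C hC v hv => by
          rw [mem_centralizer_singleton_iff]
          by_cases h : ∃ i : ℕ, conjMap (f ^ i) C1 = C
          · exact mem_centralizer_iff.1 hz v ((le_sSup h : C ≤ PO) hv)
          · exact mem_centralizer_iff.1 (hzK w hw q hq z hz hqz C hC h) v hv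
        rw [mem_centralizer_iff]
        exact fun v hv => mem_centralizer_singleton_iff.1 (hle hv)
      have hz1 := hzL u hu p hp z hz hpz
      have hz2 := hzL v hv p' hp' z' hz' hpz'
      have hzm' : z' ∈ L := by
        rw [show z' = p'⁻¹ * v by rw [← hpz']; group]; exact mul_mem (inv_mem (hPOL hp')) (hΩL K hKΩ hv)
      have e1 : ⁅z, p'⁆ = 1 :=
        commutatorElement_eq_one_iff_mul_comm.2 (mem_centralizer_iff.1 hz1 _ (hPOL hp')).symm
      have e2 : ⁅z, z'⁆ = 1 := commutatorElement_eq_one_iff_mul_comm.2 (mem_centralizer_iff.1 hz1 _ hzm').symm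
      have e3 : ⁅p, z'⁆ = 1 := commutatorElement_eq_one_iff_mul_comm.2 (mem_centralizer_iff.1 hz2 _ (hPOL hp))
      rw [← hpz, ← hpz', comm_mul_left, comm_mul_right, comm_mul_right, e1, e2, e3]
      simp only [mul_one, one_mul, mul_inv_cancel]
      rw [commutatorElement_def]
      exact mul_mem (mul_mem (mul_mem hp hp') (inv_mem hp)) (inv_mem hp')
    have hfk : ⁅k⁻¹, f⁆ ∈ centralizer (PO : Set X) := by
      have hfd : f * d = d * f := (mem_centralizer_singleton_iff.1 hd.2).symm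
      have e : ⁅k⁻¹, f⁆ = x * (f * x⁻¹ * f⁻¹) := by
        rw [commutatorElement_def, hx, mul_inv_rev, inv_inv]
        calc k⁻¹ * f * k * f⁻¹ = k⁻¹ * (f * (d * (d⁻¹ * k))) * f⁻¹ := by group
          _ = k⁻¹ * ((f * d) * (d⁻¹ * k)) * f⁻¹ := by group
          _ = k⁻¹ * ((d * f) * (d⁻¹ * k)) * f⁻¹ := by rw [hfd]
          _ = _ := by group
      rw [e]
      exact mul_mem hxPO ((mem_normalizer_iff.1 (normalizer_le_normalizer_centralizer' PO hfPO) _).1 (inv_mem hxPO))
    have hfk' : ⁅f, k⁆ ∈ K := by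
      rw [commutatorElement_def]
      exact mul_mem ((mem_normalizer_iff.1 hfK k).1 hk) (inv_mem hk)
    refine ⟨hfk', ?_⟩
    have e2 : ⁅f, k⁆ = k * ⁅k⁻¹, f⁆ * k⁻¹ := by simp only [commutatorElement_def]; group
    rw [e2]
    exact centralizer_le (SetLike.coe_subset_coe.2 hKPO)
      ((mem_normalizer_iff.1 (normalizer_le_normalizer_centralizer' PO (hLPO (hΩL K hKΩ hk))) _).1 hfk)
  intro k hk
  rw [mem_centralizer_singleton_iff]
  exact mem_centralizer_iff.1 hfcK k hk

end Cfsg.Lib.CoprimeLayer
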