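import Cfsg.Agent.CoprimeLayer.Centric

/-!
Centralizers of centric `2`-subgroups of `E` are solvable, when `E` has no odd normal subgroup and
trivial centralizer.
-/

set_option autoImplicit false
set_option linter.unusedSectionVars false
set_option linter.style.haveILetI false

namespace Cfsg.Lib.CoprimeLayer

open Subgroup Cfsg.Lib.Coprime Cfsg.Lib.CommFixedGen Cfsg.Lib.Misc.AGChain Cfsg.Lib.SolvStruct.Alperin
open scoped commutatorElement

universe u

variable {Y : Type u} [Group Y] [Finite Y] {E : Subgroup Y}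

theorem perfect_eq_bot_of_odd {P : Subgroup Y} (hP : ⁅P, P⁆ = P) (hodd : Odd (Nat.card P)) : P = ⊥ :=
  eq_bot_of_perfect_solvable hP le_rfl (Cfsg.Agent.PF.isSolvable_of_odd P hodd)

/-- one link of a chain fixes the involution -/
theorem fusion_step [E.Normal] {S P0 : Subgroup Y} {d : Y} (hP0 : ⁅P0, P0⁆ = P0)
    (hP0S : P0 ≤ centralizer (S : Set Y)) (hd : d ∈ P0) {H : Subgroup Y} (hH : H = E ⊔ zpowers d)
    (hSd : ∀ q ∈ S ⊔ zpowers d, q ∈ E → q ∈ S) (hSE : S ≤ E) (hS : IsPGroup 2 S) (P : Sylow 2 H)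
    (hPS : ∀ x : H, x ∈ (P : Subgroup H) ↔ (x : Y) ∈ S ⊔ zpowers d) {D : Subgroup H}
    (hG : Good P D) {d' : H} (hd' : (d' : Y) = d) (hdD : d' ∈ D) {x : H}
    (hx : x ∈ normalizer (D : Set H)) : d' * x = x * d' := by
  haveI : Fact (Nat.Prime 2) := ⟨Nat.prime_two⟩
  obtain ⟨hDP, hGc, hGd, hGs⟩ := hG
  obtain ⟨DY, hDY⟩ : ∃ DY, DY = D.map H.subtype := ⟨_, rfl⟩
  have hmem : ∀ y : H, (y : Y) ∈ DY ↔ y ∈ D := fun y => by
    rw [hDY]; exact mem_map_iff_mem H.subtype_injective
  have hDH : DY ≤ H := hDY ▸ map_subtype_le D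
  have hEH : E ≤ H := hH ▸ le_sup_left
  have hdDY : d ∈ DY := hd' ▸ (hmem d').2 hdD
  have hDS : ∀ y ∈ DY, y ∈ S ⊔ zpowers d := fun y hy => by
    rw [hDY] at hy
    obtain ⟨y, hy', rfl⟩ := hy
    exact (hPS y).1 (hDP hy')
  set U := E ⊓ DY with hU
  have hUS : U ≤ S := fun u hu => hSd u (hDS u hu.2) hu.1
  have hdS : d ∈ centralizer (S : Set Y) := hP0S hd
  have hdU : d ∈ centralizer (U : Set Y) := centralizer_le hUS hdS
  have hzS : zpowers d ≤ normalizer (S : Set Y) :=
    (zpowers_le.2 hdS).trans (centralizer_le_normalizer _)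
  have hdecD : ∀ y ∈ DY, ∃ z ∈ zpowers d, ∃ u ∈ U, u * z = y := fun y hy => by
    obtain ⟨s, hs, z, hz, rfl⟩ := (mem_sup_of_le_normalizer hzS).1 (hDS y hy)
    refine ⟨z, hz, s, ⟨hSE hs, ?_⟩, rfl⟩
    have := mul_mem hy (inv_mem (zpowers_le.2 hdDY hz))
    rwa [mul_inv_cancel_right] at this
  -- every 2-subgroup centralising `D` lies in `D`
  have hcen : ∀ Q : Subgroup H, IsPGroup 2 Q → Q ≤ centralizer (D : Set H) → Q ≤ D := by
    intro Q hQ hQc q hq
    set O := (Cfsg.pPrimeCore 2 ↥(normalizer (D : Set H))).map (normalizer (D : Set H)).subtype with hO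
    have hOodd : Odd (Nat.card O) := by
      rw [hO, card_map_of_injective (normalizer (D : Set H)).subtype_injective]
      exact Nat.coprime_two_right.1 (Cfsg.Lib.Components.coprime_card_pPrimeCore 2)
    obtain ⟨-, -, hcomm, hbot, hsup⟩ := hGd
    have hqM : q ∈ O ⊔ D := by rw [hsup]; exact hGc (hQc hq)
    have hn : D ≤ normalizer (O : Set H) := fun a ha =>
      centralizer_le_normalizer _ (mem_centralizer_iff.2 fun b hb => hcomm b hb a ha)
    obtain ⟨o, ho, a, ha, hqe⟩ := (mem_sup_of_le_normalizer hn).1 hqM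
    obtain ⟨k, hk⟩ := hQ ⟨q, hq⟩
    have hk' : q ^ 2 ^ k = 1 := congrArg Subtype.val hk
    rw [← hqe, (show Commute o a from hcomm o ho a ha).mul_pow] at hk'
    have h1 : o ^ 2 ^ k = 1 := by
      have h2 : o ^ 2 ^ k ∈ O ⊓ D := ⟨pow_mem ho _, by
        rw [eq_inv_of_mul_eq_one_left hk']; exact Subgroup.inv_mem _ (pow_mem ha _)⟩
      rwa [hbot, mem_bot] at h2
    have h3 : o = 1 := orderOf_eq_one_iff.1 (Nat.eq_one_of_dvd_coprimes
      ((coprime_two_of_odd hOodd).symm.pow_left k)
      (orderOf_dvd_of_pow_eq_one h1) (Subgroup.orderOf_dvd_natCard O ho))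
    rw [← hqe, h3, one_mul]
    exact ha
  -- 2-subgroups of the normalizer go into `P`
  have hsyl : ∀ Q : Subgroup H, IsPGroup 2 Q → Q ≤ normalizer (D : Set H) →
      ∃ n ∈ normalizer (D : Set H), ∀ q ∈ Q, n * q * n⁻¹ ∈ (P : Subgroup H) := by
    intro Q hQ hQN
    set N := normalizer (D : Set H) with hN
    let T : Sylow 2 N :=
      ((P.2.to_le (inf_le_left : (P : Subgroup H) ⊓ N ≤ P)).comap_subtype (K := N)).toSylow hGs
    obtain ⟨T', hT'⟩ := (hQ.comap_subtype (K := N)).exists_le_sylow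
    obtain ⟨n, hn⟩ := MulAction.exists_smul_eq N T' T
    refine ⟨n, n.2, fun q hq => ?_⟩
    have h1 : n * (⟨q, hQN hq⟩ : N) * n⁻¹ ∈ (T : Subgroup N) := by
      rw [← hn]
      exact Subgroup.smul_mem_pointwise_smul _ (MulAut.conj n) _ (hT' hq)
    exact (show ((n * (⟨q, hQN hq⟩ : N) * n⁻¹ : N) : H) ∈ (P : Subgroup H) ⊓ N from h1).1
  have hUn : ∀ n : Y, n ∈ normalizer (DY : Set Y) → n ∈ normalizer (U : Set Y) := fun n hn =>
    le_normalizer_inf (N := E) (M := DY) (H := zpowers n)
      (fun g _ => by rw [normalizer_eq_top]; exact mem_top _) (zpowers_le.2 hn) (mem_zpowers n)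
  have hnY : ∀ n : H, n ∈ normalizer (D : Set H) → (n : Y) ∈ normalizer (DY : Set Y) := fun n hn => by
    rw [hDY]
    exact Subgroup.le_normalizer_map H.subtype (mem_map_of_mem H.subtype hn)
  set K := E ⊓ centralizer (U : Set Y) with hK
  have hi : ∀ Q : Subgroup Y, IsPGroup 2 Q → Q ≤ K → Q ≤ normalizer (DY : Set Y) → Q ≤ U := by
    intro Q hQ hQK hQN q hq
    have hQH : Q ≤ H := (hQK.trans inf_le_left).trans hEH
    have hQN' : Q.subgroupOf H ≤ normalizer (D : Set H) := by
      intro a ha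
      rw [mem_normalizer_iff]
      intro b
      have h := (mem_normalizer_iff.1 (hQN ha)) (b : Y)
      rw [← hmem, ← hmem]
      simpa using h
    obtain ⟨n, hn, hnP⟩ := hsyl _ hQ.comap_subtype hQN'
    have hle : (Q.subgroupOf H).map (MulAut.conj n).toMonoidHom ≤ centralizer (D : Set H) := by
      rintro _ ⟨a, ha, rfl⟩
      rw [mem_centralizer_iff]
      intro b hb
      have haE : ((n * a * n⁻¹ : H) : Y) ∈ E := by
        simpa using (inferInstance : E.Normal).conj_mem _ (hQK ha).1 (n : Y)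
      have haS := hSd _ ((hPS _).1 (hnP a ha)) haE
      have haU : ((n * a * n⁻¹ : H) : Y) ∈ centralizer (U : Set Y) := by
        simpa using (mem_normalizer_iff.1 (Cfsg.Lib.Components.normalizer_le_normalizer_centralizer' U
          (hUn _ (hnY n hn))) _).1 (hQK ha).2
      obtain ⟨z, hz, w, hw, hb'⟩ := hdecD _ ((hmem b).2 hb)
      have hzc : z * ((n * a * n⁻¹ : H) : Y) = ((n * a * n⁻¹ : H) : Y) * z :=
        (mem_centralizer_iff.1 (zpowers_le.2 hdS hz) _ haS).symm
      refine Subtype.ext ?_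
      show (b : Y) * ((n * a * n⁻¹ : H) : Y) = ((n * a * n⁻¹ : H) : Y) * (b : Y)
      rw [← hb', mul_assoc, hzc, ← mul_assoc, mem_centralizer_iff.1 haU w hw, mul_assoc]
    have h1 := hcen _ (hQ.comap_subtype.map _) hle (mem_map_of_mem _ (show (⟨q, hQH hq⟩ : H) ∈ Q.subgroupOf H from hq))
    have h2 := (mem_normalizer_iff.1 hn (⟨q, hQH hq⟩ : H)).2 h1
    exact ⟨(hQK hq).1, (hmem _).2 h2⟩
  have hDYK : DY ≤ normalizer (K : Set Y) := by
    intro y hy
    refine le_normalizer_inf (N := E) (M := centralizer (U : Set Y)) (H := DY)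
      (fun g _ => by rw [normalizer_eq_top]; exact mem_top _) (fun g hg => ?_) hy
    exact Cfsg.Lib.Components.normalizer_le_normalizer_centralizer' U (hUn g (le_normalizer hg))
  -- `D` is a Sylow subgroup of `K ⊔ D`
  have hDp : IsPGroup 2 DY := hDY ▸ (P.2.to_le hDP).map _
  set M := K ⊔ DY with hM
  obtain ⟨W, hW⟩ := (hDp.comap_subtype (K := M)).exists_le_sylow
  have hWD : (W : Subgroup M).map M.subtype = DY := by
    have hge : DY ≤ (W : Subgroup M).map M.subtype := by
      have := Subgroup.map_mono (f := M.subtype) hW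
      rwa [← subgroupOf, map_subgroupOf_eq_of_le le_sup_right] at this
    by_contra hne
    set W0 := (W : Subgroup M).map M.subtype with hW0
    have hW0p : IsPGroup 2 W0 := W.2.map _
    haveI := hW0p.isNilpotent
    have hlt : DY.subgroupOf W0 < ⊤ := lt_top_iff_ne_top.mpr fun h =>
      hne (le_antisymm (subgroupOf_eq_top.mp h) hge)
    obtain ⟨w, hwn, hwD⟩ := SetLike.exists_of_lt
      (Group.normalizerCondition_of_isNilpotent (G := W0) _ hlt)
    rw [← subgroupOf_normalizer_eq hge] at hwn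
    obtain ⟨k, hk, δ, hδ, hkδ⟩ := (mem_sup_of_le_normalizer hDYK).1 (map_subtype_le _ w.2)
    have hk1 : k = (w : Y) * δ⁻¹ := by rw [← hkδ]; group
    have hkU : k ∈ U := hi (W0 ⊓ normalizer (DY : Set Y) ⊓ K) (hW0p.to_le (inf_le_left.trans inf_le_left))
      inf_le_right (inf_le_left.trans inf_le_right)
      ⟨⟨hk1 ▸ mul_mem w.2 (Subgroup.inv_mem _ (hge hδ)),
        hk1 ▸ mul_mem hwn (Subgroup.inv_mem _ (le_normalizer hδ))⟩, hk⟩
    exact hwD (show (w : Y) ∈ DY by rw [← hkδ]; exact mul_mem hkU.2 hδ)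
  have hUc : Centric E U := by
    refine ⟨inf_le_left, hS.to_le hUS, fun Q hQ hQK q hq => ?_⟩
    obtain ⟨V, hV⟩ := (hQ.comap_subtype (K := M)).exists_le_sylow
    obtain ⟨m, hm⟩ := MulAction.exists_smul_eq M V W
    have hqM : q ∈ M := mem_sup_left (hQK hq)
    have h1 : (m : Y) * q * (m : Y)⁻¹ ∈ DY := by
      have h2 : m * (⟨q, hqM⟩ : M) * m⁻¹ ∈ (W : Subgroup M) := by
        rw [← hm]
        exact Subgroup.smul_mem_pointwise_smul _ (MulAut.conj m) _ (hV hq)
      exact hWD ▸ mem_map_of_mem M.subtype h2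
    have hmU : (m : Y) ∈ normalizer (U : Set Y) := by
      refine (sup_le ?_ ?_ : M ≤ normalizer (U : Set Y)) m.2
      · exact inf_le_right.trans (centralizer_le_normalizer _)
      · exact fun g hg => hUn g (le_normalizer hg)
    exact (mem_normalizer_iff.1 hmU q).2
      ⟨(inferInstance : E.Normal).conj_mem q (hQK hq).1 (m : Y), h1⟩
  -- conclusion
  obtain ⟨O, hOK, hOodd, hON, hdec⟩ := hUc.decomp
  obtain ⟨e, he, z, hz, hez⟩ : ∃ e ∈ E, ∃ z ∈ zpowers d, e * z = (x : Y) :=
    mem_sup_of_normal_left.1 (hH ▸ x.2)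
  have heN : e ∈ normalizer (DY : Set Y) := by
    have : e = (x : Y) * z⁻¹ := by rw [← hez]; group
    rw [this]
    exact mul_mem (hnY x hx) (Subgroup.inv_mem _ (le_normalizer (zpowers_le.2 hdDY hz)))
  have h1 := hUc.comm_mem hOodd hON hdec hP0 (hP0S.trans (centralizer_le hUS)) (hUn e heN)
    (fun q _ => by
      rw [commutatorElement_def, mul_assoc, mul_assoc]
      refine mul_mem he ?_
      rw [← mul_assoc]
      exact (inferInstance : E.Normal).conj_mem _ (inv_mem he) q) d hd
  have h2 : ⁅e, d⁆ ∈ U := by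
    refine ⟨(hOK h1).1, ?_⟩
    rw [commutatorElement_def]
    exact mul_mem ((mem_normalizer_iff.1 heN d).1 hdDY) (Subgroup.inv_mem _ hdDY)
  have hed : e * d = d * e := commutatorElement_eq_one_iff_mul_comm.1 (eq_one_of_two_odd hUc.isP hOodd h2 h1)
  obtain ⟨i, rfl⟩ := mem_zpowers_iff.1 hz
  refine Subtype.ext ?_
  show (d' : Y) * (x : Y) = (x : Y) * (d' : Y)
  rw [hd', ← hez, ← mul_assoc, ← hed, mul_assoc, mul_assoc, ((Commute.refl d).zpow_right i).eq]

theorem perfCore_sylow_eq_bot [E.Normal]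
    (hOE : ∀ N : Subgroup Y, N ≤ E → E ≤ normalizer (N : Set Y) → Odd (Nat.card N) → N = ⊥)
    (hC : centralizer (E : Set Y) = ⊥) {S : Subgroup Y} (hS : Centric E S)
    (hmax : ∀ Q : Subgroup Y, IsPGroup 2 Q → Q ≤ E → S ≤ Q → Q = S) :
    perfCore (centralizer (S : Set Y)) = ⊥ := by
  haveI : Fact (Nat.Prime 2) := ⟨Nat.prime_two⟩
  set P0 := perfCore (centralizer (S : Set Y)) with hP0
  by_contra hne
  have h2 : 2 ∣ Nat.card P0 := by
    by_contra h
    exact hne (perfect_eq_bot_of_odd (perfCore_perfect _) (Nat.odd_iff.2 (Nat.two_dvd_ne_zero.1 h)))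
  obtain ⟨⟨d, hd⟩, hd2'⟩ := exists_prime_orderOf_dvd_card' 2 h2
  have hd2 : orderOf d = 2 := by
    rw [← hd2', ← orderOf_injective P0.subtype P0.subtype_injective]; rfl
  have hdS : d ∈ centralizer (S : Set Y) := perfCore_le _ hd
  have hzS : zpowers d ≤ normalizer (S : Set Y) :=
    (zpowers_le.2 hdS).trans (centralizer_le_normalizer _)
  set S' := S ⊔ zpowers d with hS'
  have hS'p : IsPGroup 2 S' := by
    rw [hS', sup_comm]
    exact (IsPGroup.of_card (n := 1) (by rw [Nat.card_zpowers, hd2, pow_one])).to_sup_of_normal_right'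
      hS.isP hzS
  have hSd : ∀ q ∈ S', q ∈ E → q ∈ S := fun q hq hqE => by
    have := hmax (S' ⊓ E) (hS'p.to_le inf_le_left) inf_le_right (le_inf le_sup_left hS.le)
    rw [← this]
    exact ⟨hq, hqE⟩
  set H := E ⊔ zpowers d with hH
  have hS'H : S' ≤ H := sup_le_sup_right hS.le _
  let P : Sylow 2 H :=
    { toSubgroup := S'.subgroupOf H
      isPGroup' := hS'p.comap_subtype
      is_maximal' := fun {Q} hQ hle => by
        have hge : S' ≤ Q.map H.subtype := by
          rw [← map_subgroupOf_eq_of_le hS'H]; exact Subgroup.map_mono hle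
        have hQE : Q.map H.subtype ⊓ E = S := hmax _ ((hQ.map _).to_le inf_le_left) inf_le_right
          (le_inf (le_sup_left.trans hge) hS.le)
        refine le_antisymm (fun q hq => ?_) hle
        show (q : Y) ∈ S'
        obtain ⟨e, he, z, hz, hez⟩ := mem_sup_of_normal_left.1 q.2
        have hzQ : z ∈ Q.map H.subtype := hge (mem_sup_right hz)
        have : e ∈ S := by
          rw [← hQE]
          refine ⟨?_, he⟩
          rw [show e = (q : Y) * z⁻¹ by rw [← hez]; group]
          exact mul_mem (mem_map_of_mem H.subtype hq) (Subgroup.inv_mem _ hzQ)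
        rw [← hez]
        exact mul_mem_sup this hz }
  set d' : H := ⟨d, mem_sup_right (mem_zpowers d)⟩ with hd'
  have hdP : d' ∈ (P : Subgroup H) := show d ∈ S' from mem_sup_right (mem_zpowers d)
  have key : ∀ (A : Set H) (g : H), AG P A g → A = {d'} → d' * g = g * d' := by
    intro A g hAG
    induction hAG with
    | last A D x hA hD hx =>
      intro hAe
      exact fusion_step (perfCore_perfect _) (perfCore_le _) hd hH hSd hS.le hS.isP P (fun _ => Iff.rfl)
        hD rfl (hA (by rw [hAe]; rfl)) hx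
    | cons A D x g hA hD hx _ ih =>
      intro hAe
      have h1 := fusion_step (perfCore_perfect _) (perfCore_le _) hd hH hSd hS.le hS.isP P
        (fun _ => Iff.rfl) hD (d' := d') rfl (hA (by rw [hAe]; rfl)) hx
      have h2 := ih (by
        rw [hAe, cj, Set.image_singleton, mul_assoc, h1, inv_mul_cancel_left])
      rw [← mul_assoc, h1, mul_assoc, h2, mul_assoc]
  have hiso : ∀ g : H, g * d' * g⁻¹ ∈ P → g * d' * g⁻¹ = d' := by
    intro g hg
    obtain ⟨c, hc, k, hk, hgck⟩ := exists_gc P (Nat.card P) {d'} g⁻¹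
      (Set.singleton_subset_iff.2 hdP) (Nat.sub_le _ _) (by
        rw [cj, Set.image_singleton, inv_inv]; exact Set.singleton_subset_iff.2 hg)
    have h1 : d' * c = c * d' := mem_centralizer_iff.1 hc d' rfl
    have h2 := key _ k hk rfl
    have h3 : d' * g⁻¹ = g⁻¹ * d' := by rw [hgck, ← mul_assoc, h1, mul_assoc, h2, mul_assoc]
    rw [mul_assoc, h3, mul_inv_cancel_left]
  have hd'2 : orderOf d' = 2 := by
    rw [← hd2, ← orderOf_injective H.subtype H.subtype_injective]; rfl
  obtain ⟨N, hN, hNodd, hNc⟩ := Cfsg.Agent.S0215.result P d' hd'2 hdP hiso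
  have hN0 : N.map H.subtype ⊓ E = ⊥ := by
    refine hOE _ inf_le_right (le_normalizer_inf ?_ le_normalizer) ?_
    · refine (le_sup_left : E ≤ H).trans ?_
      intro g hg
      refine Subgroup.le_normalizer_map H.subtype (mem_map.2 ⟨⟨g, hg⟩, ?_, rfl⟩)
      rw [normalizer_eq_top]; exact mem_top _
    · refine Odd.of_dvd_nat ?_ (card_dvd_of_le inf_le_left)
      rwa [card_map_of_injective H.subtype_injective]
  have hdC : d ∈ centralizer (E : Set Y) := by
    rw [mem_centralizer_iff]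
    intro e he
    have h1 := mem_map_of_mem H.subtype (hNc ⟨e, (le_sup_left : E ≤ H) he⟩)
    have h2 : d * e * d⁻¹ * e⁻¹ ∈ E :=
      mul_mem ((inferInstance : E.Normal).conj_mem e he d) (inv_mem he)
    have h3 : d * e * d⁻¹ * e⁻¹ = 1 := by
      rw [← mem_bot, ← hN0]
      exact ⟨h1, h2⟩
    rw [mul_inv_eq_one, mul_inv_eq_iff_eq_mul] at h3
    exact h3.symm
  rw [hC, mem_bot] at hdC
  rw [hdC, orderOf_one] at hd2
  omega

/-- no nontrivial perfect subgroup centralises a centric `2`-subgroup -/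
theorem eq_bot_of_centric [E.Normal]
    (hOE : ∀ N : Subgroup Y, N ≤ E → E ≤ normalizer (N : Set Y) → Odd (Nat.card N) → N = ⊥)
    (hC : centralizer (E : Set Y) = ⊥) {T : Subgroup Y} (hT : Centric E T) {P : Subgroup Y}
    (hP : ⁅P, P⁆ = P) (hPC : P ≤ centralizer (T : Set Y)) : P = ⊥ := by
  obtain ⟨S, hS, hmax, hle⟩ := hT.exists_sylow
  rw [perfCore_sylow_eq_bot hOE hC hS hmax, bot_sup_eq] at hle
  have hPK : P ≤ E ⊓ centralizer (T : Set Y) := le_inf ((le_perfCore hPC hP).trans hle) hPC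
  obtain ⟨O, hOK, hOodd, hON, hdec⟩ := hT.decomp
  have hPO : P ≤ O := by
    rw [← hP, commutator_le]
    intro a ha b hb
    obtain ⟨z, hz, o, ho, rfl⟩ := hdec a (hPK ha)
    obtain ⟨z', hz', o', ho', rfl⟩ := hdec b (hPK hb)
    have hc : ∀ w ∈ T ⊓ centralizer (T : Set Y), ∀ k ∈ O, w * k = k * w := fun w hw k hk =>
      mem_centralizer_iff.1 (hOK hk).2 w hw.1
    have hzz : z' * z = z * z' := (mem_centralizer_iff.1 hz'.2 z hz.1).symm
    have h1 := hc z hz o' ho'
    have h2 := hc z' hz' o ho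
    have h4 : z * o * (z' * o') = z * z' * (o * o') := by
      rw [mul_assoc, ← mul_assoc o, ← h2, mul_assoc, mul_assoc]
    have h5 : z' * o' * (z * o) = z * z' * (o' * o) := by
      rw [mul_assoc, ← mul_assoc o', ← h1, mul_assoc, ← mul_assoc, hzz]
    have h3 : ⁅z * o, z' * o'⁆ = ⁅o, o'⁆ := by
      have hcz : ∀ k ∈ O, (z * z') * k = k * (z * z') := fun k hk => by
        rw [mul_assoc, hc z' hz' k hk, ← mul_assoc, hc z hz k hk, mul_assoc]
      calc ⁅z * o, z' * o'⁆ = (z * o * (z' * o')) * (z' * o' * (z * o))⁻¹ := by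
            rw [commutatorElement_def]; group
        _ = (z * z') * ⁅o, o'⁆ * (z * z')⁻¹ := by
            rw [h4, h5, commutatorElement_def]; group
        _ = ⁅o, o'⁆ := by
            rw [hcz _ (by rw [commutatorElement_def]; exact mul_mem (mul_mem (mul_mem ho ho') (inv_mem ho)) (inv_mem ho')),
              mul_inv_cancel_right]
    rw [h3, commutatorElement_def]
    exact mul_mem (mul_mem (mul_mem ho ho') (inv_mem ho)) (inv_mem ho')
  exact perfect_eq_bot_of_odd hP (hOodd.of_dvd_nat (card_dvd_of_le hPO))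

/-- a finite group without nontrivial perfect subgroups is solvable -/
theorem isSolvable_of_no_perfect {C : Subgroup Y}
    (h : ∀ P : Subgroup Y, P ≤ C → ⁅P, P⁆ = P → P = ⊥) : Group.IsSolvable C := by
  induction C using WellFoundedLT.induction with
  | ind C ih =>
    by_cases hp : ⁅C, C⁆ = C
    · have h0 := h C le_rfl hp
      subst h0
      infer_instance
    · have hlt : ⁅C, C⁆ < C := lt_of_le_of_ne (commutator_le_self C) hp
      have hsol := ih _ hlt fun P hP => h P (hP.trans hlt.le)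
      obtain ⟨n, hn⟩ := hsol.solvable
      refine ⟨⟨n + 1, ?_⟩⟩
      have hmap : ∀ k, (derivedSeries C (k + 1)).map C.subtype ≤
          (derivedSeries ↥⁅C, C⁆ k).map (⁅C, C⁆ : Subgroup Y).subtype := by
        intro k
        induction k with
        | zero =>
          rw [derivedSeries_succ, derivedSeries_zero, derivedSeries_zero, map_commutator,
            ← MonoidHom.range_eq_map, ← MonoidHom.range_eq_map, range_subtype, range_subtype]
        | succ k ihk =>
          rw [show derivedSeries ↥C (k + 1 + 1) = ⁅derivedSeries ↥C (k + 1), derivedSeries ↥C (k + 1)⁆ from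
              derivedSeries_succ _ _,
            show derivedSeries ↥⁅C, C⁆ (k + 1) = ⁅derivedSeries ↥⁅C, C⁆ k, derivedSeries ↥⁅C, C⁆ k⁆ from
              derivedSeries_succ _ _, map_commutator, map_commutator]
          exact commutator_mono ihk ihk
      have h1 := hmap n
      rw [hn, Subgroup.map_bot] at h1
      exact (map_eq_bot_iff_of_injective _ C.subtype_injective).1 (le_bot_iff.1 h1)

/-- the centralizer of a centric `2`-subgroup is solvable -/
theorem isSolvable_centralizer_of_centric [E.Normal]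
    (hOE : ∀ N : Subgroup Y, N ≤ E → E ≤ normalizer (N : Set Y) → Odd (Nat.card N) → N = ⊥)
    (hC : centralizer (E : Set Y) = ⊥) {T : Subgroup Y} (hT : Centric E T) :
    Group.IsSolvable ↥(centralizer (T : Set Y)) :=
  isSolvable_of_no_perfect fun _ hle hP => eq_bot_of_centric hOE hC hT hP hle

end Cfsg.Lib.CoprimeLayer
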