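import Cfsg.Agent.CoprimeLayer.Single

/-!
Passing to the normalizer of the subgroup acted on.
-/

set_option autoImplicit false
set_option linter.unusedSectionVars false
set_option linter.style.haveILetI false

namespace Cfsg.Lib.CoprimeLayer

open Subgroup Cfsg.Lib.Coprime Cfsg.Lib.Components
open scoped commutatorElement

universe u

variable {X : Type u} [Group X] [Finite X]

theorem exists_generator {R : Subgroup X} {r : ℕ} (hr : r.Prime) (hR : Nat.card R = r) :
    ∃ f, zpowers f = R ∧ f ^ r = 1 := by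
  haveI : Nontrivial R := Finite.one_lt_card_iff_nontrivial.1 (hR ▸ hr.one_lt)
  obtain ⟨⟨f, hf⟩, hne⟩ := exists_ne (1 : R)
  have hf1 : f ≠ 1 := fun h => hne (Subtype.ext h)
  have hd : orderOf f ∣ r := hR ▸ Subgroup.orderOf_dvd_natCard R hf
  have hord : orderOf f = r := (hr.eq_one_or_self_of_dvd _ hd).resolve_left fun h => hf1 (orderOf_eq_one_iff.1 h)
  exact ⟨f, Subgroup.eq_of_le_of_card_ge (zpowers_le.2 hf) (by rw [hR, Nat.card_zpowers, hord]),
    hord ▸ pow_orderOf_eq_one f⟩

theorem layer_map_subgroupOf {A N : Subgroup X} (h : A ≤ N) :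
    ((layer ↥(A.subgroupOf N)).map (A.subgroupOf N).subtype).map N.subtype = (layer ↥A).map A.subtype := by
  rw [← layer_map_equiv (subgroupOfEquivOfLe h), Subgroup.map_map, Subgroup.map_map]
  rfl

theorem isComponent_subgroupOf_twice {K A N : Subgroup X} (hA : A ≤ N) :
    IsComponent ((K.subgroupOf N).subgroupOf (A.subgroupOf N)) ↔ IsComponent (K.subgroupOf A) := by
  have : ((K.subgroupOf N).subgroupOf (A.subgroupOf N)).map (subgroupOfEquivOfLe hA).toMonoidHom
      = K.subgroupOf A := by
    ext x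
    constructor
    · rintro ⟨y, hy, rfl⟩
      exact hy
    · intro hx
      exact ⟨⟨⟨x, hA x.2⟩, x.2⟩, hx, rfl⟩
  rw [← this, comp_map_equiv_iff]

end Cfsg.Lib.CoprimeLayer
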